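import Cfsg.Agent.MT.Def

/-! # `C(z) = O(C(z)) N(Q)` -/

set_option autoImplicit false
set_option linter.unusedVariables false
set_option linter.unusedSectionVars false

namespace Cfsg.Agent.MT
open Cfsg Cfsg.Agent.BG Subgroup PHom
open Cfsg.Agent.Comp (QS CompIn)
open Cfsg.Agent.S3F (p2 SCl)
open Cfsg.Agent.GF (Lx Pr Cp Tr bar ih_all)

universe u

variable {G : Type u} [Group G] [Finite G] {ι : Sm →* G} {H K R X Y : Subgroup G} {A B : Subgroup Sm} {x y : Sm}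
  {a b g w : G}

namespace Cz
variable {G' : Type*} [Group G'] {φ : PHom G G'}

def push (φ : PHom G G') (ι : Sm →* G) (d : ι.range ≤ φ.dom) : Sm →* G' :=
  φ.hom.comp (ι.codRestrict φ.dom fun x => d (mem_rg x))

theorem push_app (d : ι.range ≤ φ.dom) (x : Sm) : push φ ι d x = φ.app (ι x) := (app_eq (d (mem_rg x))).symm

theorem push_map (d : ι.range ≤ φ.dom) (A : Subgroup Sm) : A.map (push φ ι d) = φ.im (A.map ι) := by
  ext y
  rw [PHom.mem_im' ((map_le A).trans d)]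
  exact ⟨fun ⟨x, a, b⟩ => ⟨ι x, mem_im a, (push_app d x).symm.trans b⟩,
    fun ⟨_, ⟨x, a, rfl⟩, b⟩ => ⟨x, a, (push_app d x).trans b⟩⟩

theorem d1 : ∀ x, zc x → x ∉ Q0 → c0 * x * c0⁻¹ * x⁻¹ ∈ Z0 ∧ zc (x * c0) ∧ x * (x * c0) ≠ x * c0 * x := by
  decide +kernel
theorem d2 : ∀ y ∈ E0, ∃ s, s * s = z0 ∧ s⁻¹ * y * (s⁻¹ * y) = z0 := by decide +kernel
theorem d4 : ∀ y ∈ Q0, y * y ∈ Z0 ∧ ∀ x ∈ Q0, x * y * x⁻¹ * y⁻¹ ∈ Z0 := by decide +kernel
theorem l2 : ∀ c ∈ Q0, ∀ a ∈ Q0, c * a ≠ a * c → ∀ b ∈ Q0, c * b ≠ b * c → c * (a * b) = a * b * c := by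
  decide +kernel
theorem l3 : ∀ a ∈ Q0, (∀ e ∈ E0, e * a = a * e) → a ∈ E0 := by decide +kernel
theorem l4 : ∀ a ∈ Q0, (∀ e ∈ Q0, e * a = a * e) → a ∈ Z0 := by decide +kernel
theorem zcm (h : x ∈ Z0) (y : Sm) : y * x = x * y := (cen_iff x).2 h y
theorem zz : ∀ x ∈ Z0, x * x = 1 := by decide +kernel
theorem z_Z : z0 ∈ Z0 := by decide
theorem Z_E : Z0 ≤ E0 := Z_V.trans V_E

theorem cz (c : g ∈ C1[ι z0]) (e : x ∈ Z0) : g * ι x * g⁻¹ = ι x := by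
  rcases (mem_Z0 x).1 e with rfl | rfl
  · simp
  · rw [mem_C1.1 c, mul_inv_cancel_right]

theorem nU (c : g ∈ C1[ι z0]) (e : g * a * g⁻¹ * a⁻¹ ∈ Z0.map ι) : g ∈ N[zpowers a ⊔ Z0.map ι] :=
  mem_N_of_cj_le (by
    rw [cj_sup, cj_zpowers]
    refine sup_le (zpowers_le.2 ?_) (fun y hy => ?_)
    · have := mul_mem (mem_sup_right (S := zpowers a) e) (mem_sup_left (mem_zpowers a))
      rwa [inv_mul_cancel_right] at this
    · obtain ⟨_, ⟨s, i, rfl⟩, rfl⟩ := exists_of_mem_cj hy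
      rw [cz c i]; exact mem_sup_right (mem_im i))

theorem Ohat (hR : PiG {2} R) (h1 : H ≤ C[R]) (l : R ≤ H) : (quo R).pre O[{2}ᶜ](H ÷ R) ≤ O[{2}ᶜ](H) ⊔ R := by
  have n := cents_norm h1
  have e : (quo R).pre O[{2}ᶜ](H ÷ R) ≤ H := pre_le_of_le_im n ((quo_ker R).le.trans l) (O_le _ _)
  have s : Syl 2 R ((quo R).pre O[{2}ᶜ](H ÷ R)) :=
    ⟨le_pre_quo _ _, hR, by rw [← card_quo (e.trans n), quo_pre]; exact O_pig _ _⟩
  exact ((burnside p2 s (inf_le_left.trans (e.trans h1))).sdprod s).sup.ge.trans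
    (sup_le_sup_right (O_le_of_normal _ e (norm_pre n (O_norm _ _))) _)
end Cz
open Cz

namespace Pat
variable (h : Pat ι)
include h

theorem czA (x1 : zc x) (x2 : x ∉ Q0) (y1 : y ∈ E0) : ¬ Cj C1[ι z0] (ι x) (ι y) := fun e => by
  obtain ⟨k, a, e⟩ := e
  obtain ⟨f1, f2, f3⟩ := d1 x x1 x2
  let B : Subgroup Sm := closure {x, c0, z0}
  let U := zpowers (ι y) ⊔ Z0.map ι
  have UE : U ≤ E0.map ι := sup_le (zpowers_le.2 (mem_im y1)) (map_mono Z_E)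
  have n : ∀ s, s * x * s⁻¹ * x⁻¹ ∈ Z0 → ι s ∈ BG.cj k⁻¹ N[U] := fun s i => mem_cj_inv.2
    (nU (mul_mem (mul_mem a (rg_cen (mem_rg s))) (inv_mem a)) (by
      convert Cz.cz a i ▸ mem_im (ι := ι) i using 1
      rw [← e]; simp only [map_mul, map_inv]; group))
  obtain ⟨R, s, l⟩ := syl_superset p2 (U := Q0.map ι) (M := C1[ι z0] ⊓ N[U]) (le_inf ((map_le _).trans rg_cen) (by
    rintro _ ⟨q, i, rfl⟩
    refine nU (rg_cen (mem_rg q)) ?_
    have := mem_im (ι := ι) ((d4 y (E_Q y1)).2 q i)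
    simpa only [map_mul, map_inv] using this)) (map_pig _)
  obtain ⟨m, b, l'⟩ := s.cj_sub p2 (U := BG.cj k (B.map ι))
    (le_inf (cj_le_of_mem ((map_le _).trans rg_cen) (normG _ a)) (cj_le_iff.2 (map_le_iff_le_comap.2 ((closure_le _).2 (by
      rintro s (rfl | rfl | rfl)
      · exact n _ (by simp)
      · exact n _ f1
      · exact n _ (by rw [← z0_cen]; simp)))))) ((map_pig _).cj _)
  obtain ⟨g, d, l''⟩ := h.cj_sub rg_cen (s.le.trans inf_le_left) s.pi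
  obtain ⟨σ, q⟩ := h.pull (g := g * (m * k)) (A := B) (by rw [cj_mul, cj_mul]; exact (cj_mono _ l').trans l'')
  obtain ⟨τ, r⟩ := h.pull (g := g) (A := Q0) ((cj_mono _ l).trans l'')
  have mB : ∀ s ∈ ({x, c0, z0} : Set Sm), s ∈ B := subset_closure
  have mx := mB x (by simp)
  have mc := mB c0 (by simp)
  have mz := mB z0 (by simp)
  have sz : σ z0 = z0 := h.inj ((q.eq _ mz).trans (Cz.cz (mul_mem d (mul_mem b.1 a)) z_Z))
  have tz : τ z0 = z0 := h.inj ((r.eq _ (by decide)).trans (Cz.cz d z_Z))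
  have sx : σ x ∈ Q0 := by
    obtain ⟨t, t1, t2⟩ := UE (conj_mem b.2 (mem_sup_left (mem_zpowers (ι y))))
    obtain ⟨u, u1, u2⟩ := d2 t t1
    have i : σ x = τ u * τ (u⁻¹ * t) := h.inj (by
      rw [← r.mul _ (sqz _ u1) _ (sqz _ u2), mul_inv_cancel_left, q.eq _ mx, r.eq _ (E_Q t1), t2, ← e]; group)
    exact i ▸ mul_mem (sqz _ ((r.sq (sqz _ u1) u1).trans tz)) (sqz _ ((r.sq (sqz _ u2) u2).trans tz))
  have sc : σ c0 ∈ Q0 := sqz _ ((q.sq mc (by decide)).trans sz)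
  have xc := mul_mem mx mc
  have k1 := zc_Q _ (h.pzc q mx x1) sx
  have k2 := zc_Q _ (h.pzc q xc f2) (q.mul _ mx _ mc ▸ mul_mem sx sc)
  exact f3 (q.inj _ (mul_mem mx xc) _ (mul_mem xc mx) (by
    rw [q.mul _ mx _ xc, q.mul _ xc _ mx]; exact le_C_iff.1 ab_E.1 _ k1 _ k2))

theorem czQ (y1 : y ∈ Q0) (e : Cj C1[ι z0] (ι y) (ι x)) : x ∈ Q0 := by
  obtain ⟨g, a, e'⟩ := id e
  have k : x * x = y * y := h.inj (by rw [map_mul, ← e', conj_mul, ← map_mul, Cz.cz a (d4 y y1).1])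
  rcases (mem_Z0 _).1 (d4 y y1).1 with i | i
  swap
  · exact sqz x (k.trans i)
  rcases zx x (k.trans i) with rfl | j | j
  · exact one_mem _
  · exact by_contra fun n => h.czA j n (zc_Q y (h.zc_cj j e.symm.top) y1) e.symm
  · exact xc_Q x j

theorem normQ : C1[ι z0] ≤ O[{2}ᶜ](C1[ι z0]) ⊔ C1[ι z0] ⊓ N[Q0.map ι] := by
  have hQ := fun x y => h.czQ (x := x) (y := y)
  have c : C1[ι z0] ≤ C1[ι z0] := le_rfl
  have hle : ι.range ≤ C1[ι z0] := rg_cen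
  revert hQ c hle
  generalize hH : C1[ι z0] = H
  intro hQ c' hle
  have c : H ≤ C1[ι z0] := hH.ge
  have hm : ∀ x, ι x ∈ H := fun x => hle (mem_rg x)
  have hmle : ∀ A : Subgroup Sm, A.map ι ≤ H := fun A => (map_le A).trans hle
  have cZ : H ≤ C[Z0.map ι] := by rwa [map_Z, C_zpowers]
  have d : H ≤ (quo (Z0.map ι)).dom := cents_norm cZ
  have ZQ : Z0.map ι ≤ Q0.map ι := map_mono (Z_E.trans E_Q)
  have kr := quo_ker (Z0.map ι)
  have hO := Ohat (map_pig Z0) cZ (hmle _)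
  generalize hφ : quo (Z0.map ι) = φ at d kr hO
  obtain ⟨j, ja, jm⟩ : ∃ j : Sm →* Quo (Z0.map ι), (∀ x, j x = φ.app (ι x)) ∧
      (∀ A : Subgroup Sm, A.map j = φ.im (A.map ι)) :=
    ⟨_, push_app (hle.trans d), push_map _⟩
  have j1 : ∀ x, j x = 1 ↔ x ∈ Z0 := fun x => by
    rw [← h.mem_iff, ← SetLike.ext_iff.1 kr, PHom.mem_ker, ja, and_iff_right (d (hm x))]
  have lx : Lx (#(φ.im H) + 1) (Q0.map j) (φ.im H) := ⟨ih_all _, Nat.lt_succ_self _, ⟨le_C_iff.2 (by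
      rintro _ ⟨x, a, rfl⟩ _ ⟨y, b, rfl⟩
      have := (j1 _).2 ((d4 y b).2 x a)
      rwa [map_mul, map_mul, map_mul, map_inv, map_inv, mul_inv_eq_one, mul_inv_eq_iff_eq_mul] at this), by
      rintro _ ⟨x, a, rfl⟩
      rw [pow_two, ← map_mul, j1]; exact (d4 x a).1⟩, jm _ ▸ im_mono (hmle _),
    jm _ ▸ (GF.scl_syl (h.sub hle) (by
      rintro _ ⟨y, a, rfl⟩ g b ⟨x, e⟩
      exact e ▸ mem_im (hQ _ _ a ⟨g, b, e.symm⟩))).im d (hmle _) (map_pig _)⟩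
  have ZM : Z0.map ι ≤ O[{2}ᶜ](H) ⊔ H ⊓ N[Q0.map ι] :=
    (le_inf (hmle _) (ZQ.trans (normG _))).trans le_sup_right
  have MH : O[{2}ᶜ](H) ⊔ H ⊓ N[Q0.map ι] ≤ H := sup_le (O_le _ _) inf_le_left
  refine le_of_im_le d (MH.trans d) (kr.le.trans ZM) (lx.gen ?_ ?_ fun L hL n => ?_)
  · exact (im_pre (O_le _ _)).ge.trans (im_mono (hO.trans (sup_le le_sup_left ZM)))
  · rw [jm, ← im_IN d ((hmle _).trans d) (kr.le.trans ZQ)]; exact im_mono le_sup_right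
  exfalso
  obtain ⟨B, D, X, p⟩ := lx.pr hL n
  have mQ : ∀ x, j x ∈ Q0.map j → x ∈ Q0 := by
    rintro x ⟨y, a, e⟩
    exact (mul_mem_cancel_left (inv_mem a)).1 (E_Q (Z_E ((j1 _).1 (by rw [map_mul, map_inv, e, inv_mul_cancel]))))
  have lift : ∀ g ∈ H, ∀ a b, φ.app g * j a * (φ.app g)⁻¹ = j b → ∃ w ∈ Z0, g * ι a * g⁻¹ = ι (b * w) := fun g i a b e => by
    have k := mul_mem (mul_mem i (hm a)) (inv_mem i)
    rw [ja, ja, ← app_conj (d i) (d (hm a)), eq_comm, app_eq_iff (d (hm b)) (d k), kr] at e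
    obtain ⟨w, w1, w2⟩ := e
    exact ⟨w, w1, by rw [map_mul, w2, mul_inv_cancel_left]⟩
  have BD : ∀ s, j s ∈ B → j s ∈ D → s ∈ Z0 := fun s a b => (j1 s).1 (mem_bot.1 (p.inf ▸ mem_inf.2 ⟨a, b⟩))
  have F1 : ∀ a, j a ∈ D → a ∉ Z0 → ∀ b, j b ∈ D → b ∉ Z0 → ∀ s, j s ∈ B →
      (s * a = a * s → s * b = b * s) ∧ (s * a ∈ E0 → s * b ∈ E0) := fun a a1 a2 b b1 b2 s s1 => by
    obtain ⟨g, g1, e⟩ := p.tr _ a1 (mt (j1 _).1 a2) _ b1 (mt (j1 _).1 b2)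
    obtain ⟨g, i, rfl⟩ := (mem_im' d).1 (hL.le (p.XL g1))
    obtain ⟨w, w1, w2⟩ := lift g i a b e
    obtain ⟨v, v1, v2⟩ := lift g i s s (by rw [← mem_C.1 (p.XC g1) _ s1, mul_inv_cancel_right])
    have E : s * v * (b * w) = s * b * (v * w) := (show Commute v b from (zcm v1 b).symm).mul_mul_mul_comm s w
    refine ⟨fun k => ?_, fun k => ?_⟩
    · have : s * v * (b * w) = b * w * (s * v) := h.inj (by
        rw [map_mul, map_mul ι (b * w), ← v2, ← w2, conj_mul, conj_mul, ← map_mul, ← map_mul, k])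
      rw [E, (show Commute w s from (zcm w1 s).symm).mul_mul_mul_comm, zcm w1 v] at this
      exact mul_right_cancel this
    · have n1 : s * a ≠ 1 := fun o => a2 (BD a (by
        rw [eq_inv_of_mul_eq_one_right o, map_inv]; exact inv_mem s1) a1)
      have z1 : zc (s * b * (v * w)) := h.zc_cj (E_zc _ k n1) ⟨g, trivial, by
        rw [← E, map_mul ι (s * v), ← v2, ← w2, conj_mul, map_mul]⟩
      have vw := Z_E (mul_mem v1 w1)
      exact (mul_mem_cancel_right vw).1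
        (zc_Q _ z1 (mul_mem (mul_mem (mQ s (p.BA s1)) (mQ b (p.DA b1))) (E_Q vw)))
  obtain ⟨a, a1, a2, b, b1, b2, ab⟩ : ∃ a, j a ∈ D ∧ a ∉ Z0 ∧ ∃ b, j b ∈ D ∧ b ∉ Z0 ∧ a * b ∉ Z0 := by
    obtain ⟨y, y1, y2⟩ := exists_mem_ne_one p.Dne
    obtain ⟨a, -, rfl⟩ := p.DA y1
    refine ⟨a, y1, mt (j1 _).2 y2, ?_⟩
    by_contra! k
    have : (D : Set (Quo (Z0.map ι))) ⊆ {1, (j a)⁻¹} := fun y hy => by
      obtain ⟨b, -, rfl⟩ := p.DA hy
      refine or_iff_not_imp_left.2 fun e => eq_inv_of_mul_eq_one_right ?_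
      rw [← map_mul, j1]; exact k b hy (mt (j1 _).2 e)
    have k := (Set.ncard_le_ncard this).trans (Set.ncard_insert_le _ _)
    have f := p.four
    rw [Set.ncard_singleton] at k
    change _ ≤ (D : Set (Quo (Z0.map ι))).ncard at f
    omega
  have ab1 : j (a * b) ∈ D := map_mul j a b ▸ mul_mem a1 b1
  have aQ := mQ a (p.DA a1)
  have bQ := mQ b (p.DA b1)
  have cB : ∀ s, j s ∈ B → s * a = a * s := fun s i => by_contra fun k =>
    k ((F1 _ ab1 ab a a1 a2 s i).1 (l2 s (mQ s (p.BA i)) a aQ k b bQ fun l => k ((F1 b b1 b2 a a1 a2 s i).1 l)))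
  have dec : ∀ e ∈ Q0, ∃ s, j s ∈ B ∧ j (s⁻¹ * e) ∈ D := fun e i => by
    have dp := p.dp lx.ab.1
    obtain ⟨u, u1, v, v1, o⟩ := (mem_sup_l (cents_norm dp.cent)).1 (dp.sup.ge (mem_im (ι := j) i))
    obtain ⟨s, -, rfl⟩ := p.BA u1
    exact ⟨s, u1, by rw [map_mul, map_inv, o, inv_mul_cancel_left]; exact v1⟩
  by_cases k : ∀ e ∈ E0, j e ∈ B
  · exact a2 (BD a (k a (l3 a aQ fun e i => cB e (k e i))) a1)
  push Not at k
  obtain ⟨e, e1, e2⟩ := k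
  obtain ⟨s, s1, s2⟩ := dec e (E_Q e1)
  have sE : ∀ t, j t ∈ D → t ∉ Z0 → s * t ∈ E0 := fun t t1 t2 =>
    (F1 _ s2 (fun o => e2 (by
      have := mul_mem s1 (((j1 _).2 o).symm ▸ one_mem B : j (s⁻¹ * e) ∈ B)
      rwa [← map_mul, mul_inv_cancel_left] at this)) t t1 t2 s s1).2 (by rwa [mul_inv_cancel_left])
  have bE : b ∈ E0 := (mul_mem_cancel_left (sE a a1 a2)).1 (by rw [mul_assoc]; exact sE _ ab1 ab)
  have sE' : s ∈ E0 := (mul_mem_cancel_right bE).1 (sE b b1 b2)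
  have DE : ∀ t, j t ∈ D → t ∈ E0 := fun t t1 => by
    by_cases o : t ∈ Z0
    · exact Z_E o
    · exact (mul_mem_cancel_left sE').1 (sE t t1 o)
  refine a2 (l4 a aQ fun q i => ?_)
  obtain ⟨t, t1, t2⟩ := dec q i
  have := le_C_iff.1 ab_E.1 _ (DE _ t2) _ (DE a a1)
  rw [← mul_inv_cancel_left t q, mul_assoc, this, ← mul_assoc, cB t t1, mul_assoc]

end Pat

end Cfsg.Agent.MT
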