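import Cfsg.Agent.MT.Sm

/-! # Groups with a Sylow `2`-subgroup of type `M₁₂`: definitions

`TM ι`: the injective `ι : Sm →* G` has a Sylow `2`-subgroup of `G` as its range; `Pat ι`: the fusion of involutions.
Files: `Mod` (the model), `Fus` (`Pat`), `Cz` (`C(z) = O N(Q)`), `P0`, `Sig` (`O(C(z)) = 1`), `Hz` (`C(z)`),
`Kt` (`C(t)`), `Main`. -/

set_option autoImplicit false
set_option linter.unusedVariables false
set_option linter.unusedSectionVars false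

namespace Cfsg.Agent.MT
open Cfsg Cfsg.Agent.BG Subgroup PHom
open Cfsg.Agent.S3F (p2)

universe u

variable {G : Type u} [Group G] [Finite G] {ι : Sm →* G} {H K X Y : Subgroup G} {A B : Subgroup Sm} {x y : Sm}
  {a b g w : G}

structure TM (ι : Sm →* G) : Prop where
  inj : Function.Injective ι
  syl : Syl 2 ι.range ⊤

/-- `x` and `y` are conjugate in `H` -/
def Cj (H : Subgroup G) (x y : G) : Prop := ∃ g ∈ H, g * x * g⁻¹ = y

/-- the fusion pattern of `M₁₂` -/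
structure Pat (ι : Sm →* G) : Prop extends TM ι where
  fz : ∀ x, zc x → Cj ⊤ (ι x) (ι z0)
  fx : ∀ x, xc x → Cj ⊤ (ι x) (ι t0)
  ne : ¬ Cj ⊤ (ι z0) (ι t0)

theorem Cj.symm {x y : G} (h : Cj H x y) : Cj H y x := by
  obtain ⟨g, a, rfl⟩ := h
  exact ⟨g⁻¹, inv_mem a, by group⟩
theorem Cj.trans {x y z : G} (h : Cj H x y) (h' : Cj H y z) : Cj H x z := by
  obtain ⟨g, a, rfl⟩ := h
  obtain ⟨k, b, rfl⟩ := h'
  exact ⟨k * g, mul_mem b a, by group⟩
theorem Cj.mono {x y : G} (h : Cj H x y) (l : H ≤ K) : Cj K x y := h.imp fun _ a => ⟨l a.1, a.2⟩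
theorem Cj.top {x y : G} (h : Cj H x y) : Cj ⊤ x y := h.mono le_top
theorem Cj.refl (H : Subgroup G) (x : G) : Cj H x x := ⟨1, one_mem _, by group⟩
theorem cj_g (g x : G) : Cj ⊤ x (g * x * g⁻¹) := ⟨g, trivial, rfl⟩
theorem cj_iff {x y : G} : Cj ⊤ x y ↔ IsConj x y :=
  ⟨fun ⟨g, _, e⟩ => isConj_iff.2 ⟨g, e⟩, fun h => (isConj_iff.1 h).imp fun _ e => ⟨trivial, e⟩⟩

theorem map_le (A : Subgroup Sm) : A.map ι ≤ ι.range := map_le_range _ _
theorem mem_im (h : x ∈ A) : ι x ∈ A.map ι := mem_map_of_mem _ h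
theorem mem_rg (x : Sm) : ι x ∈ ι.range := ⟨x, rfl⟩
theorem rg_pig (ι : Sm →* G) : PiG {2} ι.range := by
  rw [MonoidHom.range_eq_map]
  exact (pig_of_card_pow (n := 6) p2 (by rw [card_top, Sm.card]; rfl)).map ι
theorem map_pig (A : Subgroup Sm) : PiG {2} (A.map ι) := (rg_pig ι).of_le (map_le A)
theorem rg_cen : ι.range ≤ C1[ι z0] := by
  rintro _ ⟨x, rfl⟩
  rw [mem_C1, ← map_mul, ← map_mul, z0_cen]
theorem rg_norm (h : ⊤ ≤ N[A]) : ι.range ≤ N[A.map ι] := by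
  rw [MonoidHom.range_eq_map]; exact norm_map h ι
theorem map_Z : Z0.map ι = zpowers (ι z0) := by rw [Z0_eq, MonoidHom.map_zpowers]
theorem map_C1 (x : Sm) : C1[x].map ι ≤ C1[ι x] := by
  rintro _ ⟨y, a, rfl⟩
  rw [mem_C1, ← map_mul, ← map_mul, mem_C1.1 a]
theorem mem_V (h : a ∈ V0.map ι) (a1 : a ≠ 1) : a = ι z0 ∨ a = ι v0 ∨ a = ι (v0 * z0) := by
  obtain ⟨x, b, rfl⟩ := h
  rcases (mem_V0 x).1 b with rfl | rfl | rfl | rfl
  exacts [(a1 (map_one ι)).elim, .inl rfl, .inr (.inl rfl), .inr (.inr rfl)]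
theorem cjsq (e : g * ι x * g⁻¹ = a) (h : x * x = 1) : a * a = 1 := by
  rw [← e, conj_mul, ← map_mul, h]; simp
theorem cj_s (x s : Sm) : Cj ι.range (ι x) (ι (s * x * s⁻¹)) := ⟨ι s, mem_rg s, by simp⟩
theorem cj_s' (e : ∃ s, s * x * s⁻¹ = y) : Cj ι.range (ι x) (ι y) := by
  obtain ⟨s, rfl⟩ := e
  exact cj_s x s

/-- the map induced by conjugation on a part of `Sm` -/
structure Pull (ι : Sm →* G) (g : G) (A : Subgroup Sm) (σ : Sm → Sm) : Prop where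
  eq : ∀ x ∈ A, ι (σ x) = g * ι x * g⁻¹
  mul : ∀ x ∈ A, ∀ y ∈ A, σ (x * y) = σ x * σ y
  inj : ∀ x ∈ A, ∀ y ∈ A, σ x = σ y → x = y
  one : σ 1 = 1

namespace Pull
variable {σ : Sm → Sm} (q : Pull ι g A σ)
include q
theorem ne (a : x ∈ A) (b : y ∈ A) (n : x ≠ y) : σ x ≠ σ y := fun e => n (q.inj x a y b e)
theorem ne1 (a : x ∈ A) (n : x ≠ 1) : σ x ≠ 1 := q.one ▸ q.ne a (one_mem _) n
theorem sq (a : x ∈ A) (e : x * x = y) : σ x * σ x = σ y := by rw [← q.mul x a x a, e]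
theorem sq1 (a : x ∈ A) (e : x * x = 1) : σ x * σ x = 1 := (q.sq a e).trans q.one
theorem cm (a : x ∈ A) (b : y ∈ A) (e : x * y = y * x) : σ x * σ y = σ y * σ x := by
  rw [← q.mul x a y b, ← q.mul y b x a, e]
theorem cj (hg : g ∈ H) (a : x ∈ A) : Cj H (ι x) (ι (σ x)) := ⟨g, hg, (q.eq x a).symm⟩
theorem mem (a : x ∈ A) : ι (σ x) ∈ BG.cj g (A.map ι) := q.eq x a ▸ mem_cj_conj.2 (mem_im a)
end Pull

namespace TM
variable (h : TM ι)
include h

theorem eq : ι x = ι y ↔ x = y := h.inj.eq_iff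
theorem mem_iff : ι x ∈ A.map ι ↔ x ∈ A := mem_map_iff_mem h.inj
theorem ne_one (a : x ≠ 1) : ι x ≠ 1 := fun e => a (h.inj (e.trans (map_one ι).symm))
theorem card (A : Subgroup Sm) : #(A.map ι) = #A := card_map_inj h.inj A
theorem card_rg : #ι.range = 64 := by rw [MonoidHom.range_eq_map, h.card, card_top, Sm.card]
theorem sub (l : ι.range ≤ H) : Syl 2 ι.range H := h.syl.sub l le_top
/-- a `2`-subgroup of `H` is conjugate in `H` into the range -/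
theorem cj_sub (l' : ι.range ≤ H) (l : X ≤ H) (p : PiG {2} X) : ∃ g ∈ H, BG.cj g X ≤ ι.range :=
  (h.sub l').cj_sub p2 l p
theorem sq_of (e : ι x * ι x = 1) : x * x = 1 := h.inj (by rw [map_mul, map_one, e])

theorem pull (l : BG.cj g (A.map ι) ≤ ι.range) : ∃ σ, Pull ι g A σ := by
  have : ∀ x, ∃ y, x ∈ A → ι y = g * ι x * g⁻¹ := fun x => by
    by_cases a : x ∈ A
    · obtain ⟨y, e⟩ := l (mem_cj_conj.2 (mem_im a))
      exact ⟨y, fun _ => e⟩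
    · exact ⟨1, fun b => (a b).elim⟩
  choose σ e using this
  refine ⟨σ, e, fun x a y b => h.inj ?_, fun x a y b c => h.inj ?_, h.inj ?_⟩
  · rw [map_mul, e _ (mul_mem a b), e x a, e y b, map_mul]; group
  · have := (e x a).symm.trans ((congrArg ι c).trans (e y b))
    simpa using this
  · rw [e 1 (one_mem _)]; simp

theorem inf_C1 (x : Sm) : ι.range ⊓ C1[ι x] = C1[x].map ι := by
  refine le_antisymm ?_ (le_inf (map_le _) (map_C1 x))
  rintro _ ⟨⟨y, rfl⟩, a⟩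
  exact mem_im (mem_C1.2 (h.inj (by rw [map_mul, map_mul]; exact mem_C1.1 a)))

theorem ord (e : x * x = 1) (n : x ≠ 1) : orderOf (ι x) = 2 :=
  orderOf_of_pow p2 (by rw [pow_two, ← map_mul, e, map_one]) (h.ne_one n)

/-- a conjugate of `z` is extremal only in `z` -/
theorem toZ (e : Cj ⊤ (ι x) (ι z0)) : ∃ g, g * ι x * g⁻¹ = ι z0 ∧ BG.cj g (C1[x].map ι) ≤ ι.range := by
  obtain ⟨k, -, e⟩ := e
  obtain ⟨c, b, d⟩ := h.cj_sub rg_cen (X := BG.cj k (C1[x].map ι))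
    (by rw [← e, ← cj_C1]; exact cj_mono _ (map_C1 x)) ((map_pig _).cj _)
  refine ⟨c * k, ?_, by rwa [cj_mul]⟩
  rw [show c * k * ι x * (c * k)⁻¹ = c * (k * ι x * k⁻¹) * c⁻¹ by group, e, mem_C1.1 b, mul_inv_cancel_right]

theorem toZ' (e : Cj ⊤ (ι x) (ι z0)) : ∃ g σ, Pull ι g C1[x] σ ∧ σ x = z0 := by
  obtain ⟨g, e, l⟩ := h.toZ e
  obtain ⟨σ, q⟩ := h.pull l
  exact ⟨g, σ, q, h.inj ((q.eq _ (mem_C1_self x)).trans e)⟩

/-- an involution of `H` is conjugate in `H` into the range -/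
theorem inv_in (l : ι.range ≤ H) (hw : w ∈ H) (e : w * w = 1) : ∃ x, x * x = 1 ∧ Cj H w (ι x) := by
  obtain ⟨g, a, b⟩ := h.cj_sub l (zpowers_le.2 hw) (pig_zpowers.2 (pie_of_pow p2 ((pow_two w).trans e)))
  obtain ⟨x, c⟩ := b (mem_cj_conj.2 (mem_zpowers w))
  exact ⟨x, h.sq_of (by rw [c, conj_mul, e]; group), g, a, c.symm⟩
end TM

namespace Pat
variable (h : Pat ι)
include h

theorem sep (a : zc x) (b : xc y) : ¬ Cj ⊤ (ι x) (ι y) := fun e =>
  h.ne (((h.fz x a).symm.trans e).trans (h.fx y b))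
theorem zc_of (e : Cj ⊤ (ι z0) (ι x)) : zc x := by
  obtain ⟨g, -, e'⟩ := id e
  rcases zx x (h.sq_of (cjsq e' (by decide))) with rfl | a | a
  · exact (h.ne_one (show z0 ≠ 1 by decide) (by simpa using e')).elim
  · exact a
  · exact (h.sep (by decide) a e).elim
theorem xc_of (e : Cj ⊤ (ι t0) (ι x)) : xc x := by
  obtain ⟨g, -, e'⟩ := id e
  rcases zx x (h.sq_of (cjsq e' (by decide))) with rfl | a | a
  · exact (h.ne_one (show t0 ≠ 1 by decide) (by simpa using e')).elim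
  · exact (h.sep a (by decide) e.symm).elim
  · exact a
theorem zc_cj (a : zc x) (e : Cj ⊤ (ι x) (ι y)) : zc y := h.zc_of ((h.fz x a).symm.trans e)
theorem xc_cj (a : xc x) (e : Cj ⊤ (ι x) (ι y)) : xc y := h.xc_of ((h.fx x a).symm.trans e)
theorem pzc {σ : Sm → Sm} (q : Pull ι g A σ) (a : x ∈ A) (b : zc x) : zc (σ x) := h.zc_cj b (q.cj (mem_top g) a)
theorem pxc {σ : Sm → Sm} (q : Pull ι g A σ) (a : x ∈ A) (b : xc x) : xc (σ x) := h.xc_cj b (q.cj (mem_top g) a)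
/-- the two classes of involutions -/
theorem two (e : w * w = 1) (n : w ≠ 1) : Cj ⊤ (ι z0) w ∨ Cj ⊤ (ι t0) w := by
  obtain ⟨x, a, b⟩ := h.inv_in le_top (mem_top w) e
  rcases zx x a with rfl | c | c
  · obtain ⟨g, -, b⟩ := b
    exact (n (by simpa using b)).elim
  · exact .inl (b.trans (h.fz x c)).symm
  · exact .inr (b.trans (h.fx x c)).symm

/-- `C_S(x)` is a Sylow subgroup of `C(x)` for `x` in the class of `t` -/
theorem sylX (a : xc x) : Syl 2 (C1[x].map ι) C1[ι x] := by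
  obtain ⟨R, s, l⟩ := syl_superset p2 (map_C1 (ι := ι) x) (map_pig _)
  obtain ⟨g, -, d⟩ := h.cj_sub le_top (le_top (a := R)) s.pi
  obtain ⟨y, hy⟩ := d (mem_cj_conj.2 (l (mem_im (mem_C1_self x))))
  have c := card_le ((le_inf d (show BG.cj g R ≤ C1[ι y] by
    rw [hy, ← cj_C1]; exact cj_mono _ s.le)).trans (h.inf_C1 y).le)
  rw [card_cj, h.card, card_sub, cardC_xc y (h.xc_cj a ⟨g, trivial, hy.symm⟩), ← cardC_xc x a, ← card_sub,
    ← h.card] at c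
  exact eq_of_card_le l c ▸ s

/-- elements of the class of `t` are conjugate together with their centralisers, inside `C(z)` -/
theorem toT (a : xc x) : ∃ g ∈ C1[ι z0], g * ι x * g⁻¹ = ι t0 ∧ BG.cj g (C1[x].map ι) ≤ C1[t0].map ι := by
  obtain ⟨k, -, e⟩ := h.fx x a
  obtain ⟨c, b, d⟩ := (h.sylX (show xc t0 by decide)).cj_sub p2 (U := BG.cj k (C1[x].map ι))
    (by rw [← e, ← cj_C1]; exact cj_mono _ (map_C1 x)) ((map_pig _).cj _)
  rw [← cj_mul] at d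
  obtain ⟨y, y1, y2⟩ := (by decide +kernel : ∀ x, xc x → ∃ y ∈ C1[x], y * y = z0) x a
  obtain ⟨y', b1, b2⟩ := d (mem_cj_conj.2 (mem_im y1))
  have i : ι (y' * y') = c * k * ι z0 * (c * k)⁻¹ := by rw [map_mul, b2, conj_mul, ← map_mul, y2]
  refine ⟨c * k, mem_C1.2 (mul_inv_eq_iff_eq_mul.1 ?_), ?_, d⟩
  · rcases (by decide +kernel : ∀ y ∈ C1[t0], y * y = 1 ∨ y * y = z0) y' b1 with j | j <;> rw [j] at i
    · exact (h.ne_one (show z0 ≠ 1 by decide) (conj_eq_one_iff.1 (i.symm.trans (map_one ι)))).elim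
    · exact i.symm
  · rw [show c * k * ι x * (c * k)⁻¹ = c * (k * ι x * k⁻¹) * c⁻¹ by group, e, mem_C1.1 b, mul_inv_cancel_right]

/-- an element of `N(T)` mapping `x ∈ {v, v z}` to `z` -/
theorem rho (a : x ∈ V0) (b : x ∉ Z0) :
    ∃ g σ, Pull ι g T0 σ ∧ σ x = z0 ∧ (∀ y ∈ T0, σ y ∈ T0) ∧ (∀ y ∈ V0, σ y ∈ V0) ∧ σ z0 ∉ Z0 := by
  have C : ∀ x ∈ V0, x ∉ Z0 → ∀ y, y ∈ C1[x] ↔ y ∈ T0 := by decide +kernel
  obtain ⟨g, σ, q, e⟩ := h.toZ' (h.fz x (E_zc x (V_E a) fun e => b (e ▸ one_mem _)))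
  rw [Subgroup.ext (C x a b)] at q
  have zT : z0 ∈ T0 := by decide
  have n : σ z0 ∉ Z0 := fun m => ((mem_Z0 _).1 m).elim (q.ne1 zT (by decide))
    fun i => q.ne zT (V_T a) (fun j => b (j ▸ by decide)) (i.trans e.symm)
  have sq : ∀ y ∈ V0, σ y ∈ V0 := fun y i => by
    obtain ⟨c, c1, rfl⟩ := (by decide +kernel : ∀ y ∈ V0, ∃ c ∈ T0, c * c = y) y i
    rw [q.mul c c1 c c1]
    exact (by decide +kernel : ∀ d : Sm, d * d * (d * d) = 1 → d * d ∈ V0) _ (by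
      rw [← q.mul c c1 c c1]; exact q.sq1 (V_T i) ((pow_two _).symm.trans (ab_V.pow _ i)))
  exact ⟨g, σ, q, e, fun y i => (C _ (sq z0 (by decide)) n _).1 (mem_C1.2 (q.cm i zT (z0_cen y))), sq, n⟩
end Pat

end Cfsg.Agent.MT
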