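import Cfsg.Agent.MT.Def
import Cfsg.Agent.SO.TT

/-! # The fusion pattern -/

set_option autoImplicit false
set_option linter.unusedVariables false
set_option linter.unusedSectionVars false

namespace Cfsg.Agent.MT
open Cfsg Cfsg.Agent.BG Subgroup PHom
open Cfsg.Agent.S3F (p2 SCl)

universe u

variable {G : Type u} [Group G] [Finite G] {ι : Sm →* G} {H K X Y : Subgroup G} {A B : Subgroup Sm} {x y : Sm}
  {a b g w : G}

/-- the automorphism exchanging `t` and `p` -/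
def al : Sm →* Sm := MonoidHom.mk' (fun x => ⟨x.a + cond x.e 1 0, x.b + cond x.e 1 0, x.e, x.f⟩) (by decide +kernel)
theorem al_inj : Function.Injective al := (injective_iff_map_eq_one _).2 (by decide +kernel)

namespace TM
variable [IsSimpleGroup G] (h : TM ι)
include h

theorem na : ¬ IsMulCommutative G := fun ⟨⟨c⟩⟩ =>
  absurd (h.inj (show ι (a0 * t0) = ι (t0 * a0) by rw [map_mul, map_mul, c])) (by decide)

theorem tr (p : Sm → Prop) (hp : ∀ a b, p (a * b) ↔ (p a ↔ p b)) (e : x * x = 1) (n : x ≠ 1) :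
    ∃ y, p y ∧ y * y = 1 ∧ y ≠ 1 ∧ Cj ⊤ (ι x) (ι y) := by
  have k : ∀ a, (∃ y, ι y = ι a ∧ p y) ↔ p a := fun a => ⟨fun ⟨y, e, i⟩ => h.inj e ▸ i, fun i => ⟨a, rfl, i⟩⟩
  obtain ⟨g, -, ⟨y, a, b⟩, -⟩ := SO.tt h.na h.syl (fun g => ∃ y, ι y = g ∧ p y) (by
    rintro _ ⟨a, rfl⟩ _ ⟨b, rfl⟩
    rw [← map_mul, k, k, k, hp]) (u := ι x) (by rw [← map_mul, e, map_one]) (D := ⊥) (pig_bot _) (by simp)
  refine ⟨y, b, h.sq_of (cjsq a.symm e), ?_, g, trivial, a.symm⟩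
  rintro rfl
  exact h.ne_one n (conj_eq_one_iff.1 (a.symm.trans (map_one ι)))

theorem cj_inv (c : Cj ⊤ (ι x) (ι y)) (e : x * x = 1) (n : x ≠ 1) : y * y = 1 ∧ y ≠ 1 := by
  obtain ⟨g, -, a⟩ := c
  refine ⟨h.sq_of (cjsq a e), ?_⟩
  rintro rfl
  exact h.ne_one n (conj_eq_one_iff.1 (a.trans (map_one ι)))

variable (h2 : ∃ x y : G, orderOf x = 2 ∧ orderOf y = 2 ∧ ¬ IsConj x y)
include h2

theorem nall : ¬ ∀ x, x * x = 1 → x ≠ 1 → Cj ⊤ (ι x) (ι z0) := fun k => by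
  have i : ∀ w : G, orderOf w = 2 → Cj ⊤ w (ι z0) := fun w e => by
    obtain ⟨x, a, b⟩ := h.inv_in le_top (mem_top w) (by rw [← pow_two, ← e, pow_orderOf_eq_one])
    refine b.trans (k x a ?_)
    rintro rfl
    obtain ⟨g, -, b⟩ := b
    rw [conj_eq_one_iff.1 (b.trans (map_one ι)), orderOf_one] at e
    omega
  obtain ⟨x, y, a, b, c⟩ := h2
  exact c (cj_iff.1 ((i x a).trans (i y b).symm))

theorem nsc (ab : Abelem 2 A) (z : z0 ∈ A) (k : ∀ x ∈ A, x ≠ 1 → ∀ y, Cj ⊤ (ι x) (ι y) → y ∈ A) : False := by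
  rcases GF.gs' h.na h.syl (ne_bot_of_mem (mem_im z) (h.ne_one (by decide))) (ab.map ι).abel ⟨map_le A, by
    rintro _ ⟨x, a, rfl⟩ g ⟨y, e⟩
    by_cases n : x = 1
    · simp [n]
    · exact e ▸ mem_im (k x a n y ⟨g, trivial, e.symm⟩)⟩ with ⟨H, s⟩ | ⟨e, -, c, -⟩
  · obtain ⟨x, y, a, b, c⟩ := h2
    exact c (Inv.se_isConj s a b)
  · rw [← e, h.card_rg] at c
    omega

theorem zv : Cj ⊤ (ι v0) (ι z0) := by_contra fun n => by
  have k1 : ∀ y ∈ Q0, Cj ⊤ (ι y) (ι z0) → y = z0 := fun y a c => by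
    obtain ⟨g, σ, q, e⟩ := h.toZ' c
    obtain ⟨d, d1, d2⟩ := (by decide +kernel : ∀ y ∈ Q0, y * y = 1 → ∃ d ∈ C1[y], d * d = z0) y a
      (h.cj_inv c.symm (by decide) (by decide)).1
    have zy : z0 ∈ C1[y] := mem_C1.2 (z0_cen y).symm
    have i := q.sq d1 d2
    rcases (by decide +kernel : ∀ d : Sm, d * d * (d * d) = 1 → d * d = 1 ∨ d * d = z0 ∨
      ∃ s, s * (d * d) * s⁻¹ = v0) (σ d) (i ▸ q.sq1 zy (by decide)) with j | j | j <;> rw [i] at j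
    · exact (q.ne1 zy (by decide) j).elim
    · exact q.inj _ (mem_C1_self y) _ zy (e.trans j.symm)
    · exact (n ((q.cj (mem_top g) zy).trans (cj_s' j).top).symm).elim
  refine h.nsc h2 ab_Z (by decide) fun x a b y c => ?_
  obtain rfl := ((mem_Z0 x).1 a).resolve_left b
  by_cases yq : y ∈ Q0
  · exact k1 y yq c.symm ▸ a
  have ou : ∀ y, y * y = 1 → y ∉ Q0 → ∀ y', y' * y' = 1 → y' ∉ Q0 → ∃ s, s * y * s⁻¹ = y' := by decide +kernel
  have y2 := (h.cj_inv c (by decide) (by decide)).1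
  obtain ⟨g, σ, q, e⟩ := h.toZ' c.symm
  obtain ⟨v1, v2, v3⟩ := (by decide +kernel : ∀ y, y * y = 1 → y ∉ Q0 → v0 ∈ C1[y] ∧ y * v0 * (y * v0) = 1 ∧
    y * v0 ∉ Q0) y y2 yq
  have m := mul_mem (mem_C1_self y) v1
  have i : σ v0 ∉ Q0 := fun i => q.ne m (mem_C1_self y) (by simpa using (show v0 ≠ 1 by decide))
    ((k1 _ (by rw [q.mul _ (mem_C1_self y) _ v1, e]; exact mul_mem (by decide) i)
      (((q.cj (mem_top g) m).symm.trans (cj_s' (ou _ v2 v3 y y2 yq)).top).trans c.symm)).trans e.symm)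
  exact (n (((q.cj (mem_top g) v1).trans (cj_s' (ou _ (q.sq1 v1 (by decide)) i y y2 yq)).top).trans c.symm)).elim

theorem cV (a : x ∈ V0) (n : x ≠ 1) : Cj ⊤ (ι x) (ι z0) := by
  rcases (by decide +kernel : ∀ x ∈ V0, x ≠ 1 → x = z0 ∨ ∃ s, s * x * s⁻¹ = v0) x a n with rfl | j
  exacts [Cj.refl _ _, (cj_s' j).top.trans (h.zv h2)]

theorem tr' (p : Sm → Prop) (hp : ∀ a b, p (a * b) ↔ (p a ↔ p b)) (l : List Sm)
    (k : ∀ y, p y → y * y = 1 → y ∈ V0 ∨ ∃ y' ∈ l, ∃ s, s * y * s⁻¹ = y') (e : x * x = 1) (n : x ≠ 1) :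
    Cj ⊤ (ι x) (ι z0) ∨ ∃ y ∈ l, Cj ⊤ (ι x) (ι y) := by
  obtain ⟨y, a, b, c, d⟩ := h.tr p hp e n
  exact (k y a b).imp (fun i => d.trans (h.cV h2 i c)) fun ⟨y', i, j⟩ => ⟨y', i, d.trans (cj_s' j).top⟩

theorem trr (e : x * x = 1) (n : x ≠ 1) : Cj ⊤ (ι x) (ι z0) ∨ Cj ⊤ (ι x) (ι r0) := by
  simpa using h.tr' h2 (fun x => x.e = x.f) (by decide +kernel) [r0] (by decide +kernel) e n
theorem trs (e : x * x = 1) (n : x ≠ 1) : Cj ⊤ (ι x) (ι z0) ∨ Cj ⊤ (ι x) (ι s0) := by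
  simpa using h.tr' h2 (fun x => x.e = false) (by decide +kernel) [s0] (by decide +kernel) e n
theorem ns : ¬ Cj ⊤ (ι s0) (ι z0) := fun c => h.nall h2 fun x e n => (h.trs h2 e n).elim id (·.trans c)
theorem st : Cj ⊤ (ι s0) (ι t0) ∨ Cj ⊤ (ι s0) (ι p0) := by
  simpa [h.ns h2] using h.tr' h2 (fun x => x ∈ Q0 ↔ x ∈ T0) (by decide +kernel) [t0, p0] (by decide +kernel)
    (x := s0) (by decide) (by decide)

theorem pat0 (st : Cj ⊤ (ι s0) (ι t0)) : Pat ι := by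
  have ns := h.ns h2
  have sr := (h.trr h2 (x := s0) (by decide) (by decide)).resolve_left ns
  have nt : ¬ Cj ⊤ (ι t0) (ι z0) := fun c => ns (st.trans c)
  have up : Cj ⊤ (ι u0) (ι t0) ∨ Cj ⊤ (ι u0) (ι p0) := by
    obtain ⟨g, σ, q, e⟩ := h.toZ' (h.zv h2)
    have uw : Cj ⊤ (ι u0) (ι w0) := (cj_s' ⟨s0, by decide⟩).top
    have mu : u0 ∈ C1[v0] := by decide
    have mw : w0 ∈ C1[v0] := by decide
    have mz : z0 ∈ C1[v0] := by decide
    have i := q.sq (mul_mem mu mw) (show u0 * w0 * (u0 * w0) = z0 by decide)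
    rw [q.mul _ mu _ mw] at i
    have cu := q.cj (mem_top g) mu
    have cw := uw.trans (q.cj (mem_top g) mw)
    rcases (by decide +kernel : ∀ a : Sm, a * a = 1 → ∀ b, b * b = 1 → a * b * (a * b) ∉ Z0 →
      a * b * (a * b) * (a * b * (a * b)) = 1 → ((∃ s, s * a * s⁻¹ = t0) ∨ ∃ s, s * a * s⁻¹ = p0) ∨
        ((∃ s, s * b * s⁻¹ = t0) ∨ ∃ s, s * b * s⁻¹ = p0)) _ (q.sq1 mu (by decide)) _ (q.sq1 mw (by decide))
      (fun m => ((mem_Z0 _).1 (i ▸ m)).elim (q.ne1 mz (by decide))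
        fun j => q.ne mz (mem_C1_self _) (by decide) (j.trans e.symm)) (i ▸ q.sq1 mz (by decide)) with j | j
    · exact j.imp (fun j => cu.trans (cj_s' j).top) fun j => cu.trans (cj_s' j).top
    · exact j.imp (fun j => cw.trans (cj_s' j).top) fun j => cw.trans (cj_s' j).top
  have uz : Cj ⊤ (ι u0) (ι z0) := by_contra fun nu => by
    have k : ∀ y, Cj ⊤ (ι y) (ι z0) → y ∈ V0 ∨ (y ∈ E0 ∧ Cj ⊤ (ι p0) (ι z0)) := fun y c => by
      rcases (by decide +kernel : ∀ y : Sm, y * y = 1 → y ∈ V0 ∨ (y ∈ E0 ∧ ∃ s, s * y * s⁻¹ = p0) ∨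
        ∃ y' ∈ [t0, u0, s0, r0], ∃ s, s * y * s⁻¹ = y') y (h.cj_inv c.symm (by decide) (by decide)).1 with
        j | ⟨j, j'⟩ | ⟨y', i, j⟩
      · exact .inl j
      · exact .inr ⟨j, (cj_s' j').top.symm.trans c⟩
      · have := (cj_s' (ι := ι) j).top.symm.trans c
        simp only [List.mem_cons, List.not_mem_nil, or_false] at i
        rcases i with rfl | rfl | rfl | rfl
        exacts [(nt this).elim, (nu this).elim, (ns this).elim, (ns (sr.trans this)).elim]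
    by_cases pz : Cj ⊤ (ι p0) (ι z0)
    · refine h.nsc h2 ab_E (by decide) fun x a b y c => (k y (c.symm.trans ?_)).elim (V_E ·) (·.1)
      rcases (by decide +kernel : ∀ y ∈ E0, y ∈ V0 ∨ ∃ s, s * y * s⁻¹ = p0) x a with j | j
      exacts [h.cV h2 j b, (cj_s' j).top.trans pz]
    · exact h.nsc h2 ab_V (by decide) fun x a b y c =>
        (k y (c.symm.trans (h.cV h2 a b))).resolve_right fun i => pz i.2
  have pz := (up.resolve_left fun c => nt (c.symm.trans uz)).symm.trans uz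
  refine ⟨h, fun x a => ?_, fun x a => ?_, fun c => nt c.symm⟩
  · rcases (by decide +kernel : ∀ x, zc x → x ∈ V0 ∨ (∃ s, s * x * s⁻¹ = p0) ∨ ∃ s, s * x * s⁻¹ = u0) x a with
      j | j | j
    exacts [h.cV h2 j a.2.1, (cj_s' j).top.trans pz, (cj_s' j).top.trans uz]
  · rcases (by decide +kernel : ∀ x, xc x → (∃ s, s * x * s⁻¹ = t0) ∨ (∃ s, s * x * s⁻¹ = s0) ∨
      ∃ s, s * x * s⁻¹ = r0) x a with j | j | j
    exacts [(cj_s' j).top, (cj_s' j).top.trans st, (cj_s' j).top.trans (sr.symm.trans st)]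
end TM

theorem TM.pat [IsSimpleGroup G] (h : TM ι) (h2 : ∃ x y : G, orderOf x = 2 ∧ orderOf y = 2 ∧ ¬ IsConj x y) :
    ∃ ι' : Sm →* G, Pat ι' := by
  rcases h.st h2 with c | c
  · exact ⟨ι, h.pat0 h2 c⟩
  · refine ⟨ι.comp al, TM.pat0 ⟨h.inj.comp al_inj, ?_⟩ h2 c⟩
    rw [MonoidHom.range_comp, MonoidHom.range_eq_top.2 (Finite.injective_iff_surjective.1 al_inj),
      ← MonoidHom.range_eq_map]
    exact h.syl

end Cfsg.Agent.MT
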