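import Cfsg.Agent.MT.P0
import Cfsg.Agent.SE.Basic

/-! # The centraliser of `z` -/

set_option autoImplicit false
set_option linter.unusedVariables false
set_option linter.unusedSectionVars false

namespace Cfsg.Agent.MT
open Cfsg Cfsg.Agent.BG Subgroup PHom
open Cfsg.Agent.S3F (p2 SCl)

universe u

variable {G : Type u} [Group G] [Finite G] {ι : Sm →* G} {H K X Y : Subgroup G} {A B : Subgroup Sm} {x y : Sm}
  {a b g w : G}

theorem hz_zp (w : Sm) : z0 ∈ zpowers w ↔ ∃ k ∈ List.range 8, w ^ k = z0 := by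
  refine ⟨fun e => ?_, fun ⟨k, _, e⟩ => e ▸ pow_mem (mem_zpowers w) k⟩
  obtain ⟨n, e⟩ := (Submonoid.mem_powers_iff _ _).1 (mem_powers_iff_mem_zpowers.2 e)
  exact ⟨n % 8, List.mem_range.2 (Nat.mod_lt _ (by norm_num)), by
    rw [← pow_eq_pow_mod n ((by decide +kernel : ∀ w : Sm, w ^ 8 = 1) w), e]⟩
theorem hz_c8 : ∀ x ∈ [v0, u0],
    (Finset.univ.filter fun y : Sm => xc y ∧ ∃ k ∈ List.range 8, (x * y) ^ k = z0).card = 8 := by decide +kernel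
theorem hz_c6 : (Finset.univ.filter fun y : Sm => y ∈ E0 ∧ y ∉ Z0).card = 6 := by decide +kernel
theorem hz_inv (a2 : a * a = 1) (b2 : b * b = 1) (w2 : w * w = 1) (e : w ∈ zpowers (a * b)) :
    a ∈ C1[w] ∧ b ∈ C1[w] := by
  obtain ⟨n, e⟩ := (Submonoid.mem_powers_iff _ _).1 (mem_powers_iff_mem_zpowers.2 e)
  have i : ∀ {x : G}, x * x = 1 → x⁻¹ = x := fun e => inv_eq_of_mul_eq_one_right e
  have i1 : a * w * a⁻¹ = w := by
    conv_rhs => rw [← i w2]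
    rw [← e, ← conj_pow, ← inv_pow, mul_inv_rev, i a2, i b2, ← mul_assoc a a, a2, one_mul]
  have aK : a ∈ C1[w] := mem_C1.2 (mul_inv_eq_iff_eq_mul.1 i1)
  exact ⟨aK, (mul_mem_cancel_left aK).1 (mem_C1.2 (by rw [← e, ← pow_succ, ← pow_succ']))⟩

namespace Pat
variable (h : Pat ι) (o : O[{2}ᶜ](C1[ι z0]) = ⊥)
include h o

theorem nQ : C1[ι z0] ≤ N[Q0.map ι] := by
  have := h.normQ
  rw [o, bot_sup_eq] at this
  exact this.trans inf_le_right

theorem nE : C1[ι z0] ≤ N[E0.map ι] := (h.nQ o).trans h.NQ_NE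

theorem NV : C1[ι z0] ⊓ N[V0.map ι] ≤ ι.range := by
  have l : ι.range ≤ C1[ι z0] ⊓ N[V0.map ι] := le_inf rg_cen (rg_norm n_V)
  refine ((h.sub l).max (pig_of_prime_elts fun g hg p => by_contra fun n => ?_) le_rfl l).le
  have od : PiE {2}ᶜ g := (pin_prime p).2 n
  have ez : g * ι z0 * g⁻¹ = ι z0 := mul_inv_eq_iff_eq_mul.2 (mem_C1.1 hg.1)
  have c : g * g * ι v0 * (g * g)⁻¹ = ι v0 := by
    rw [show g * g * ι v0 * (g * g)⁻¹ = g * (g * ι v0 * g⁻¹) * g⁻¹ by group]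
    rcases mem_V (conj_mem hg.2 (mem_im (show v0 ∈ V0 by decide)))
      (by simpa using h.ne_one (show v0 ≠ 1 by decide)) with e | e | e
    · exact ((show v0 ≠ z0 by decide) (h.inj (by simpa using e.trans ez.symm))).elim
    · rw [e, e]
    · rw [e, map_mul, ← conj_mul, e, ez, ← map_mul, show v0 * z0 * z0 = v0 by decide]
  have := h.pz (x := v0) (by decide) (by decide) (zpowers_le.2 (mul_mem hg.1 hg.1))
    (pig_zpowers.2 (pow_two g ▸ od.pow 2)) (cents_norm le_rfl (by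
      rw [C_zpowers]; exact C1_symm (mem_C1.2 (mul_inv_eq_iff_eq_mul.1 c))))
  rw [o] at this
  have e := (pie_of_pow p2 ((pow_two g).trans (mem_bot.1 (this (mem_zpowers _))))).eq_one od
  rw [e, orderOf_one] at p
  exact Nat.not_prime_one p

theorem CV (hx : ∀ e ∈ E0, e ∈ C1[x] ↔ e ∈ V0) : C1[ι z0] ⊓ C1[ι x] = C1[x].map ι := by
  refine le_antisymm (fun g hg => h.inf_C1 x ▸ ⟨h.NV o ⟨hg.1, mem_N_of ?_⟩, hg.2⟩)
    (le_inf ((map_le _).trans rg_cen) (map_C1 x))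
  rintro _ ⟨y, a, rfl⟩
  obtain ⟨y', b, e⟩ := conj_mem (h.nE o hg.1) (mem_im (V_E a))
  refine e ▸ mem_im ((hx y' b).1 (mem_C1.2 (h.inj ?_)))
  rw [map_mul, map_mul, e, ← mul_inv_eq_iff_eq_mul.2 (mem_C1.1 hg.2), conj_mul, conj_mul, ← map_mul, ← map_mul,
    mem_C1.1 ((hx y (V_E a)).2 a)]

theorem Czt : C1[ι z0] ⊓ C1[ι t0] = C1[t0].map ι := h.CV o (by decide +kernel)

theorem Czu (a : zc x) (b : x ∉ Q0) : C1[ι z0] ⊓ C1[ι x] = C1[x].map ι :=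
  h.CV o ((by decide +kernel : ∀ x, zc x → x ∉ Q0 → ∀ e ∈ E0, e ∈ C1[x] ↔ e ∈ V0) x a b)

theorem exh : ∃ g ∈ C1[ι z0], g * ι v0 * g⁻¹ = ι p0 := by
  obtain ⟨g, a, -, b⟩ := h.toT (x := s0) (by decide)
  obtain ⟨y, c, e⟩ := b (mem_cj_conj.2 (mem_im (show p0 ∈ C1[s0] by decide)))
  have m : y ∈ E0 := h.mem_iff.1 (e ▸ conj_mem (h.nE o a) (mem_im (show p0 ∈ E0 by decide)))
  have ez : g * ι z0 * g⁻¹ = ι z0 := mul_inv_eq_iff_eq_mul.2 (mem_C1.1 a)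
  refine (Cj.trans (⟨g, a, e.symm⟩ : Cj _ (ι p0) (ι y)) ((cj_s' ?_).mono rg_cen)).symm
  refine (by decide +kernel : ∀ y ∈ E0, y ∈ C1[t0] → y ≠ 1 → y ≠ z0 → ∃ s, s * y * s⁻¹ = v0) y m c ?_ ?_ <;>
    rintro rfl
  · exact h.ne_one (show p0 ≠ 1 by decide) (by simpa using e.symm)
  · exact (show p0 ≠ z0 by decide) (h.inj (by simpa using e.symm.trans ez.symm))

theorem cjv (a : x ∈ E0) (b : x ∉ Z0) : Cj C1[ι z0] (ι v0) (ι x) := by
  rcases (by decide +kernel : ∀ x ∈ E0, x ∉ Z0 → (∃ s, s * v0 * s⁻¹ = x) ∨ ∃ s, s * p0 * s⁻¹ = x) x a b with e | e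
  · exact (cj_s' e).mono rg_cen
  · exact Cj.trans (h.exh o) ((cj_s' e).mono rg_cen)

theorem clsv : {a | ∃ d ∈ C1[ι z0], d * ι v0 * d⁻¹ = a}.ncard = 6 := by
  rw [← hz_c6, ← Finset.card_map ⟨ι, h.inj⟩, ← Set.ncard_coe_finset]
  congr 1
  ext a
  simp only [Set.mem_setOf_eq, Finset.coe_map, Finset.coe_filter, Finset.mem_univ, true_and, Set.mem_image]
  refine ⟨?_, fun ⟨x, ⟨a, b⟩, e⟩ => e ▸ h.cjv o a b⟩
  rintro ⟨g, hg, rfl⟩
  have ez : g * ι z0 * g⁻¹ = ι z0 := mul_inv_eq_iff_eq_mul.2 (mem_C1.1 hg)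
  obtain ⟨y, b, e⟩ := conj_mem (h.nE o hg) (mem_im (show v0 ∈ E0 by decide))
  refine ⟨y, ⟨b, fun c => ?_⟩, e⟩
  rcases (mem_Z0 y).1 c with rfl | rfl
  · exact h.ne_one (show v0 ≠ 1 by decide) (by simpa using e.symm)
  · exact (show v0 ≠ z0 by decide) (h.inj (by simpa using e.symm.trans ez.symm))

theorem cardH : #C1[ι z0] = 192 := by
  have e : C1[ι z0] ⊓ C1[ι v0] = C1[v0].map ι := by
    refine le_antisymm (fun g hg => h.inf_C1 v0 ▸ ⟨h.NV o ⟨hg.1, cents_norm le_rfl (mem_C.2 fun a ha => ?_)⟩, hg.2⟩)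
      (le_inf ((map_le _).trans rg_cen) (map_C1 _))
    by_cases n : a = 1
    · simp [n]
    rcases mem_V ha n with rfl | rfl | rfl
    exacts [(mem_C1.1 hg.1).symm, (mem_C1.1 hg.2).symm,
      (mem_C1.1 (C1_symm (map_mul ι v0 z0 ▸ mul_mem (C1_symm hg.2) (C1_symm hg.1)))).symm]
  rw [SE.card_conj _ (ι v0), e, h.clsv o, h.card, C_v, card_T0]

theorem clsu : {a | ∃ d ∈ C1[ι z0], d * ι u0 * d⁻¹ = a}.ncard = 24 := by
  have := SE.card_conj C1[ι z0] (ι u0)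
  rw [h.cardH o, h.Czu o (by decide) (by decide), h.card, card_sub,
    show (Sm.all.filter (· ∈ C1[u0])).length = 8 by decide +kernel] at this
  omega

open Finset in
theorem az : Nat.card {p : G × G // IsConj (ι z0) p.1 ∧ IsConj (ι t0) p.2 ∧ ι z0 ∈ zpowers (p.1 * p.2)} = 240 := by
  classical
  have := Fintype.ofFinite G
  have z2 : ι z0 * ι z0 = 1 := by rw [← map_mul, show z0 * z0 = 1 by decide, map_one]
  have sq : ∀ {x a}, x * x = 1 → IsConj (ι x) a → a * a = 1 := fun e c => (isConj_iff.1 c).elim fun _ i => cjsq i e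
  have fx : ∀ g ∈ C1[ι z0], g * ι z0 * g⁻¹ = ι z0 := fun g i => mul_inv_eq_iff_eq_mul.2 (mem_C1.1 i)
  set J := univ.filter fun a : G => Cj C1[ι z0] (ι v0) a ∨ Cj C1[ι z0] (ι u0) a with hJ
  have mJ : ∀ a, a ∈ J ↔ Cj C1[ι z0] (ι v0) a ∨ Cj C1[ι z0] (ι u0) a := by simp [hJ]
  have cJ : J.card = 30 := by
    rw [← Set.ncard_coe_finset, show (J : Set G) = {a | ∃ d ∈ C1[ι z0], d * ι v0 * d⁻¹ = a} ∪
      {a | ∃ d ∈ C1[ι z0], d * ι u0 * d⁻¹ = a} from Set.ext mJ, Set.ncard_union_eq, h.clsv o, h.clsu o]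
    refine Set.disjoint_left.2 fun a i j => ?_
    obtain ⟨g, k, e⟩ := Cj.trans i (Cj.symm j)
    exact (show u0 ∉ Q0 by decide) (h.mem_iff.1 (e ▸ conj_mem (h.nQ o k) (mem_im (by decide))))
  rw [Nat.subtype_card (univ.filter fun p : G × G => IsConj (ι z0) p.1 ∧ IsConj (ι t0) p.2 ∧
    ι z0 ∈ zpowers (p.1 * p.2)) (by simp), card_eq_sum_card_fiberwise (f := Prod.fst) (t := J) fun p i => ?_,
    sum_const_nat (m := 8) fun a i => ?_, cJ]
  · obtain ⟨x, hx, g, g1, rfl⟩ : ∃ x ∈ [v0, u0], Cj C1[ι z0] (ι x) a :=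
      ((mJ a).1 i).elim (fun j => ⟨_, by simp, j⟩) fun j => ⟨_, by simp, j⟩
    have zp : ∀ y, ι z0 ∈ zpowers (g * ι x * g⁻¹ * (g * ι y * g⁻¹)) ↔ ∃ k ∈ List.range 8, (x * y) ^ k = z0 := fun y => by
      rw [← hz_zp, ← h.mem_iff, MonoidHom.map_zpowers, conj_mul, ← map_mul, ← cj_zpowers]
      conv_lhs => rw [← fx g g1, mem_cj_conj]
    rw [← hz_c8 x hx]
    refine (card_bij (fun y _ => (g * ι x * g⁻¹, g * ι y * g⁻¹)) (fun y j => ?_) (fun y _ y' _ e => ?_)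
      fun p j => ?_).symm
    · obtain ⟨-, j1, j2⟩ := mem_filter.1 j
      exact mem_filter.2 ⟨mem_filter.2 ⟨mem_univ _, cj_iff.1 ((h.fz x
        ((by decide : ∀ x ∈ [v0, u0], zc x) x hx)).symm.trans (cj_g _ _)),
        cj_iff.1 ((h.fx y j1).symm.trans (cj_g _ _)), (zp y).2 j2⟩, rfl⟩
    · exact h.inj (by simpa using e)
    · simp only [mem_filter, mem_univ, true_and] at j
      obtain ⟨⟨i1, i2, i3⟩, i4⟩ := j
      have bH := (hz_inv (sq (by decide) i1) (sq (by decide) i2) z2 i3).2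
      obtain ⟨y, -, k, k1, e⟩ := h.inv_in rg_cen bH (sq (by decide) i2)
      have yq := xc_Q y (h.xc_of ((cj_iff.2 i2).trans ⟨k, trivial, e⟩))
      obtain ⟨y', b, e'⟩ := conj_mem (h.nQ o (inv_mem (mul_mem k1 g1))) (mem_im yq)
      have f : g * ι y' * g⁻¹ = p.2 := by rw [e', ← e]; group
      exact ⟨y', mem_filter.2 ⟨mem_univ _, h.xc_of ((cj_iff.2 i2).trans (Cj.symm ⟨g, trivial, f⟩)),
        (zp y').1 (by rwa [f, ← i4])⟩, Prod.ext i4.symm f⟩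
  · simp only [coe_filter, mem_univ, true_and, Set.mem_ofPred_eq] at i
    obtain ⟨i1, i2, i3⟩ := i
    obtain ⟨aH, bH⟩ := hz_inv (sq (by decide) i1) (sq (by decide) i2) z2 i3
    obtain ⟨y, -, c⟩ := h.inv_in rg_cen aH (sq (by decide) i1)
    refine (mJ _).2 ?_
    rcases (by decide +kernel : ∀ y, zc y → y = z0 ∨ (y ∈ E0 ∧ y ∉ Z0) ∨ ∃ s, s * u0 * s⁻¹ = y) y
      (h.zc_of ((cj_iff.2 i1).trans c.top)) with rfl | e | e
    · obtain ⟨k, k1, e⟩ := c.symm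
      rw [← e, fx k k1] at i3
      have b2 : ι z0 * p.2 * (ι z0 * p.2) = 1 := by
        rw [mul_assoc, ← mul_assoc p.2, mem_C1.1 bH, mul_assoc, sq (by decide) i2, mul_one, z2]
      obtain ⟨n, f⟩ := (Submonoid.mem_powers_iff _ _).1 (mem_powers_iff_mem_zpowers.2 i3)
      obtain ⟨j, rfl | rfl⟩ := Nat.even_or_odd' n
      · rw [pow_mul, pow_two, b2, one_pow] at f
        exact (h.ne_one (show z0 ≠ 1 by decide) f.symm).elim
      · rw [pow_succ, pow_mul, pow_two, b2, one_pow, one_mul, mul_eq_left] at f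
        rw [f, isConj_one_left] at i2
        exact (h.ne_one (show t0 ≠ 1 by decide) i2).elim
    · exact .inl ((h.cjv o e.1 e.2).trans c.symm)
    · exact .inr (((cj_s' e).mono rg_cen).trans c.symm)
end Pat

end Cfsg.Agent.MT
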