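import Cfsg.Agent.HJ.Abs2

/-! # A group with a self-centralising four-group fused by an element of order three is `A₄` or has order `60` -/

set_option autoImplicit false

namespace Cfsg.Agent.MT
open Cfsg.Agent.HJ Cfsg.Agent.HJ.A4 Subgroup

open Finset in
theorem card60 {L : Type*} [Group L] [Finite L] {z q y : L} (h : Hyp z q y) :
    (∀ x, x ∈ clo [z, y]) ∨ Nat.card L = 60 := by
  classical
  have := Fintype.ofFinite L
  obtain ⟨I, mI, c1, hI⟩ := h.count
  have hz : z ∈ clo [z, y] := mem_clo (by simp)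
  have hy : y ∈ clo [z, y] := mem_clo (by simp)
  rcases I.eq_empty_or_nonempty with rfl | ⟨u0, hu0⟩
  · have : clo [z, y] = ⊤ := eq_top_of_card_eq _ (by rw [h.card, ← c1]; rfl)
    exact Or.inl fun x => this ▸ mem_top x
  have mV : ∀ v, (v = 1 ∨ iV z q v) → v ∈ clo [z, y] ∧ v * v = 1 := fun v hv =>
    hv.elim (fun e => by simp [e]) fun e => ⟨(h.iv1 e).2.2, (h.iv1 e).2.1⟩
  have toJ : ∀ u ∈ I, ∃ v, (v = 1 ∨ iV z q v) ∧ v⁻¹ * u * v ∈ I ∧
      v⁻¹ * u * v * y * (v⁻¹ * u * v)⁻¹ = y⁻¹ := by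
    intro u hu
    obtain ⟨x, h1, h2, h3⟩ := hI u hu
    obtain ⟨v, h4, h5⟩ := h.inv_y ((mI u).mp hu).2 h1 h2 h3
    refine ⟨v, h4, (mI _).mpr ⟨?_, fun c => ((mI u).mp hu).2 ?_⟩, h5⟩
    · calc _ = v⁻¹ * (u * u) * v := by group
        _ = 1 := by rw [((mI u).mp hu).1]; simp
    · simpa [mul_assoc] using mul_mem (mul_mem (mV v h4).1 c) (inv_mem (mV v h4).1)
  obtain ⟨v0, -, k1, k2⟩ := toJ u0 hu0
  generalize v0⁻¹ * u0 * v0 = k at k1 k2
  obtain ⟨kk, kA⟩ := (mI k).mp k1
  have k0 : k ≠ 1 := by rintro rfl; exact kA (one_mem _)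
  have noinv : ∀ c, c * y = y * c → c * c = 1 → c = 1 := fun c e c2 => by
    by_contra c1
    exact h.y2 (h.sq c2 c1 e.symm)
  have kinv : ∀ c ∈ centralizer ({y} : Set L), k * c * k⁻¹ = c⁻¹ := by
    refine (Core.inv_of_fpf_involution (mem_normalizer_fintype fun c hc => ?_) kk ?_).1
    · rw [SetLike.mem_coe, mem_centralizer_singleton_iff] at hc ⊢
      have e : k⁻¹ * y * k = y⁻¹ := by rw [← k2, inv_eq_of_sq kk]
      have hc' : c * y⁻¹ = y⁻¹ * c := (Commute.inv_right hc).eq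
      calc k * c * k⁻¹ * y = k * (c * (k⁻¹ * y * k)) * k⁻¹ := by group
        _ = k * ((k⁻¹ * y * k) * c) * k⁻¹ := by rw [e, hc']
        _ = _ := by group
    · rw [eq_bot_iff]
      rintro c ⟨h1, h2⟩
      exact noinv c (mem_centralizer_singleton_iff.mp h1)
        (h.sq kk k0 (mem_centralizer_singleton_iff.mp h2))
  set C := univ.filter fun c : L => c ∈ centralizer ({y} : Set L) with hC
  set V := univ.filter fun c : L => c ∈ centralizer ({z} : Set L) with hV
  have cV : V.card = 4 := by rw [← h.cardV, Nat.subtype_card V (by simp [hV])]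
  have cC : Nat.card (centralizer ({y} : Set L)) = C.card := Nat.subtype_card C (by simp [hC])
  have q2 := (h.iv1 (x := q) (Or.inr (Or.inl rfl))).2.1
  have zq2 := (h.iv1 (x := z * q) (Or.inr (Or.inr rfl))).2.1
  have qz : q * z = z * q := by
    rw [← inv_eq_of_sq zq2, mul_inv_rev, inv_eq_of_sq q2, inv_eq_of_sq h.z2]
  have mV2 : ∀ v, v ∈ V ↔ v = 1 ∨ iV z q v := fun v => by
    simp only [hV, mem_filter, mem_univ, true_and, mem_centralizer_singleton_iff]
    refine ⟨h.C v, ?_⟩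
    rintro (rfl | rfl | rfl | rfl) <;> simp [qz, mul_assoc]
  have mC : ∀ c, c ∈ C ↔ c * y = y * c := by simp [hC, mem_centralizer_singleton_iff]
  have kc : ∀ c ∈ C, k * c * y * (k * c)⁻¹ = y⁻¹ ∧ k * c * (k * c) = 1 ∧ k * c ∉ clo [z, y] := by
    intro c hc
    have e1 : k * c * y * (k * c)⁻¹ = y⁻¹ := by
      rw [mul_assoc k c, (mC c).mp hc, ← k2]; group
    have e2 : k * c * (k * c) = 1 := by
      have := kinv c (by simpa [hC] using hc)
      rw [inv_eq_of_sq kk] at this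
      rw [← mul_assoc, this]; simp
    refine ⟨e1, e2, fun m => ?_⟩
    have := (h.g2 m).2.2.2.2.1 e2 (Or.inr e1)
    rw [this] at e1
    exact h.y2 (by simpa using mul_eq_one_iff_eq_inv.mpr e1)
  have cI : (V ×ˢ C).card = I.card := by
    refine card_bij (fun p _ => p.1 * (k * p.2) * p.1⁻¹) ?_ ?_ ?_
    · rintro ⟨v, c⟩ hp
      rw [mem_product, mV2] at hp
      refine (mI _).mpr ⟨by rw [conj_mul, (kc c hp.2).2.1]; simp, fun m => (kc c hp.2).2.2 ?_⟩
      simpa [mul_assoc] using mul_mem (mul_mem (inv_mem (mV v hp.1).1) m) (mV v hp.1).1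
    · rintro ⟨v, c⟩ hp ⟨v', c'⟩ hp' e
      rw [mem_product] at hp hp'
      dsimp only at e
      have w1 : v'⁻¹ * v = 1 ∨ iV z q (v'⁻¹ * v) := (mV2 _).mp (by
        simp only [hV, mem_filter, mem_univ, true_and] at hp hp' ⊢
        exact mul_mem (inv_mem hp'.1) hp.1)
      have w2 : k * c' = v'⁻¹ * v * (k * c) * (v'⁻¹ * v)⁻¹ := by
        calc _ = v'⁻¹ * (v' * (k * c') * v'⁻¹) * v' := by group
          _ = _ := by rw [← e]; group
      generalize hw : v'⁻¹ * v = w at w1 w2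
      have w3 : k * c' * (w * y * w⁻¹) * (k * c')⁻¹ = (w * y * w⁻¹)⁻¹ := by
        rw [w2]
        calc _ = w * (k * c * y * (k * c)⁻¹) * w⁻¹ := by group
          _ = _ := by rw [(kc c hp.2).1]; group
      have w4 := (h.inverted (kc c' hp'.2).2.2 hy (kc c' hp'.2).1).2 _
        (mul_mem (mul_mem (mV w w1).1 hy) (inv_mem (mV w w1).1)) w3
      have y1 : y ≠ 1 := fun e => h.y2 (by simp [e])
      have w5 : w = 1 := (h.g2 (mV w w1).1).2.2.2.2.1 (mV w w1).2
        ((w4.resolve_left y1).resolve_left (by simpa using y1))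
      subst w5
      obtain rfl : v' = v := inv_mul_eq_one.mp hw
      simp at w2
      rw [w2]
    · intro u hu
      obtain ⟨v, h1, -, h3⟩ := toJ u hu
      refine ⟨(v, k⁻¹ * (v⁻¹ * u * v)), mem_product.mpr ⟨(mV2 v).mpr h1, (mC _).mpr ?_⟩, by group⟩
      have e : k⁻¹ * y⁻¹ * k = y := by rw [← k2]; group
      calc _ = k⁻¹ * (v⁻¹ * u * v * y * (v⁻¹ * u * v)⁻¹) * (v⁻¹ * u * v) := by group
        _ = (k⁻¹ * y⁻¹ * k) * (k⁻¹ * (v⁻¹ * u * v)) := by rw [h3]; group
        _ = _ := by rw [e]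
  rw [card_product, cV] at cI
  have d1 : C.card ∣ 12 := by
    have h1 := card_subgroup_dvd_card (centralizer ({y} : Set L))
    rw [cC, ← c1, ← cI] at h1
    exact (Nat.dvd_add_right (Dvd.intro_left 16 rfl)).mp (by convert h1 using 1; ring)
  have d2 : ¬ 2 ∣ C.card := fun d => by
    obtain ⟨c, hc⟩ := exists_prime_orderOf_dvd_card' (G := centralizer ({y} : Set L)) 2 (cC ▸ d)
    have h1 : c * c = 1 := by rw [← pow_two, ← hc, pow_orderOf_eq_one]
    have h2 : c = 1 := Subtype.ext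
      (noinv c (mem_centralizer_singleton_iff.mp c.2) (congrArg Subtype.val h1))
    rw [h2, orderOf_one] at hc
    omega
  have y1 : y ≠ 1 := fun e => h.y2 (by simp [e])
  have sub : ({1, y, y⁻¹} : Finset L) ⊆ C := by
    intro x hx
    simp only [mem_insert, mem_singleton] at hx
    rcases hx with rfl | rfl | rfl <;> simp [mC]
  have c3 : ({1, y, y⁻¹} : Finset L).card = 3 := card_eq_three.mpr
    ⟨1, y, y⁻¹, y1.symm, by simpa using y1, fun e => h.y2 (mul_eq_one_iff_eq_inv.mpr e), rfl⟩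
  have d3 := card_le_card sub
  have d4 : C.card = 3 := by
    have := Nat.le_of_dvd (by norm_num) d1
    rw [c3] at d3
    generalize C.card = m at *
    interval_cases m <;> omega
  exact Or.inr (by omega)

end Cfsg.Agent.MT
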