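import Cfsg.Agent.MT.Hz
import Cfsg.Agent.MT.K60

/-! # The centraliser of `t` -/

set_option autoImplicit false
set_option linter.unusedVariables false
set_option linter.unusedSectionVars false

namespace Cfsg.Agent.MT
open Cfsg Cfsg.Agent.BG Subgroup PHom
open Cfsg.Agent.S3F (p2 SCl)

universe u

variable {G : Type u} [Group G] [Finite G] {ι : Sm →* G} {H K X Y : Subgroup G} {A B : Subgroup Sm} {x y : Sm}
  {a b g w : G}

theorem kc2 {a b x y w : G} (e1 : a * x * a⁻¹ = y) (e2 : b * y * b⁻¹ = w) : b * a * x * (b * a)⁻¹ = w := by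
  rw [← e2, ← e1]; group
theorem kci {a x y : G} (e : a * x * a⁻¹ = y) : a⁻¹ * y * a⁻¹⁻¹ = x := by rw [← e]; group
theorem kcs (s x y : Sm) (e : s * x * s⁻¹ = y) : ι s * ι x * (ι s)⁻¹ = ι y := by rw [← e]; simp
theorem kder (a1 : g ∈ K) (a2 : a ∈ ⁅K, K⁆) : g * a * g⁻¹ ∈ ⁅K, K⁆ := (mem_N.1 (der_norm K a1) a).1 a2
theorem kcm (a1 : a ∈ K) (a2 : b ∈ K) : a * b * a⁻¹ * b⁻¹ ∈ ⁅K, K⁆ := commutator_mem_commutator a1 a2
theorem kfix (a1 : g ∈ C1[a]) : g * a * g⁻¹ = a := by rw [mem_C1.1 a1, mul_inv_cancel_right]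

namespace Pat
variable (h : Pat ι) (o : O[{2}ᶜ](C1[ι z0]) = ⊥)
include h o

omit o in
theorem zP (a1 : Cj ⊤ (ι z0) a) (a2 : a ∈ C1[t0].map ι) : a ∈ V0.map ι := by
  obtain ⟨x, b, rfl⟩ := a2
  exact mem_im ((by decide +kernel : ∀ x ∈ C1[t0], zc x → x ∈ V0) x b (h.zc_of a1))

theorem inP (a1 : g ∈ C1[ι t0]) (a2 : g * ι z0 * g⁻¹ = ι z0) : g ∈ C1[t0].map ι :=
  h.Czt o ▸ ⟨mem_C1.2 (mul_inv_eq_iff_eq_mul.1 a2), a1⟩

/-- the focal subgroup -/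
theorem foc : C1[t0].map ι ⊓ ⁅C1[ι t0], C1[ι t0]⁆ ≤ V0.map ι := by
  have F1 : ∀ x ∈ V0, ∀ y ∈ C1[t0], Cj ⊤ (ι x) (ι y) → y ∈ V0 := fun x a y b c => by
    by_cases e : x = 1
    · obtain ⟨g, -, c⟩ := c
      rw [h.inj (show ι y = ι 1 by rw [← c, e]; simp)]; exact one_mem _
    · exact (by decide +kernel : ∀ x ∈ C1[t0], zc x → x ∈ V0) y b (h.zc_cj (E_zc x (V_E a) e) c)
  have F : ∀ x, ∀ y ∈ C1[t0], ∀ g ∈ C1[ι t0], g * ι x * g⁻¹ = ι y → x ∈ F0 → x⁻¹ * y ∈ V0 :=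
    fun x y b g c e f => by
    rcases (by decide +kernel : ∀ x ∈ F0, x ∈ V0 ∨ x * t0 ∈ V0) x f with i | i
    · exact mul_mem (inv_mem i) (F1 x i y b ⟨g, trivial, e⟩)
    · have := F1 _ i (y * t0) (mul_mem b (mem_C1_self _)) ⟨g, trivial, by
        rw [map_mul, map_mul, ← conj_mul, e, kfix c]⟩
      simpa [mul_assoc] using (by decide +kernel : ∀ x, x * t0 ∈ V0 → ∀ y, y * t0 ∈ V0 → x⁻¹ * y ∈ V0) x i y this
  refine focal_le p2 (h.sylX (show xc t0 by decide)) ?_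
  rintro _ ⟨x, a, rfl⟩ g c ⟨y, b, e⟩
  rw [← e, ← map_inv, ← map_mul]
  refine mem_im ?_
  by_cases f : y ∈ F0
  · simpa using inv_mem (F y x a g⁻¹ (inv_mem c) (kci e.symm) f)
  by_cases f' : x ∈ F0
  · exact F x y b g c e.symm f'
  have uz : ∀ w ∈ (C1[t0] ⊓ C1[y]).map ι, Cj ⊤ (ι z0) w → w = ι z0 := by
    rintro _ ⟨w, i, rfl⟩ j
    exact congrArg ι ((by decide +kernel : ∀ y ∈ C1[t0], y ∉ F0 → ∀ w ∈ C1[t0], w ∈ C1[y] → zc w → w = z0)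
      y b f w i.1 i.2 (h.zc_of j))
  have zD : ι z0 ∈ (C1[t0] ⊓ C1[y]).map ι := mem_im ⟨mem_C1.2 (z0_cen _).symm, mem_C1.2 (z0_cen _).symm⟩
  have lD : (C1[t0] ⊓ C1[y]).map ι ≤ C1[ι t0] ⊓ C1[ι y] :=
    le_inf ((map_mono inf_le_left).trans (map_C1 _)) ((map_mono inf_le_right).trans (map_C1 _))
  have S : Syl 2 ((C1[t0] ⊓ C1[y]).map ι) (C1[ι t0] ⊓ C1[ι y]) := by
    refine Syl.of_norm ?_ p2
    have : C1[ι t0] ⊓ C1[ι y] ⊓ N[(C1[t0] ⊓ C1[y]).map ι] = (C1[t0] ⊓ C1[y]).map ι := by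
      refine le_antisymm (fun k i => ?_) (le_inf lD (normG _))
      obtain ⟨k', j, rfl⟩ := h.inP o i.1.1 (uz _ ((mem_N.1 i.2 _).1 zD) (cj_g _ _))
      exact mem_im ⟨j, mem_C1.2 (h.inj (by rw [map_mul, map_mul]; exact mem_C1.1 i.1.2))⟩
    rw [this]
    exact syl_of_max p2 le_rfl (map_pig _) fun Q _ i j => le_antisymm i j
  obtain ⟨k, i, j⟩ := S.cj_sub p2 (U := zpowers (g * ι z0 * g⁻¹)) (zpowers_le.2 ⟨mem_C1.2 (by
      rw [← kfix c, conj_mul, conj_mul, ← map_mul, ← map_mul, z0_cen]), mem_C1.2 (by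
      rw [e, conj_mul, conj_mul, ← map_mul, ← map_mul, z0_cen])⟩)
    (pig_zpowers.2 (pie_of_pow p2 ((pow_two _).trans (cjsq rfl (by decide)))))
  obtain ⟨s, m, n⟩ := h.inP o (mul_mem i.1 c) (kc2 rfl
    (uz _ (j (mem_cj_conj.2 (mem_zpowers _))) ((cj_g _ _).trans (cj_g _ _))))
  have := kc2 e.symm (kfix i.2)
  rw [← n, ← map_inv, ← map_mul, ← map_mul, h.eq] at this
  rw [← this]
  exact (by decide +kernel : ∀ x ∈ C1[t0], ∀ s ∈ C1[t0], x⁻¹ * (s * x * s⁻¹) ∈ V0) x a s m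

omit o in
/-- an element of `C(t)` permuting the involutions of `V` cyclically -/
theorem exr : ∃ g ∈ C1[ι t0], g * ι v0 * g⁻¹ = ι z0 ∧ g * ι z0 * g⁻¹ = ι (v0 * z0) := by
  obtain ⟨g, σ, q, e1, e2, e3, e4⟩ := h.rho (x := v0) (by decide) (by decide)
  obtain ⟨c, c1, c2⟩ := (by decide +kernel : ∀ y ∈ T0, xc y → ∀ w ∈ V0, w ∉ Z0 →
    ∃ c : Sm, c * y * c⁻¹ = t0 ∧ c * w * c⁻¹ = v0 * z0) _ (e2 t0 (by decide))
    (h.pxc q (by decide) (by decide)) _ (e3 z0 (by decide)) e4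
  refine ⟨ι c * g, mem_C1.2 (mul_inv_eq_iff_eq_mul.1 (kc2 (q.eq t0 (by decide)).symm (kcs _ _ _ c1))),
    kc2 (q.eq v0 (by decide)).symm (kcs _ _ _ ?_), kc2 (q.eq z0 (by decide)).symm (kcs _ _ _ c2)⟩
  rw [e1, z0_cen, mul_inv_cancel_right]

omit o in
theorem sK : ι s0 ∈ C1[ι t0] := map_C1 _ (mem_im (by decide))

/-- the conjugates of `z` in `C(t)` -/
theorem zK (a1 : Cj ⊤ (ι z0) a) (a2 : a ∈ C1[ι t0]) : Cj C1[ι t0] (ι z0) a ∧ a ∈ ⁅C1[ι t0], C1[ι t0]⁆ := by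
  obtain ⟨k, -, e⟩ := id a1
  obtain ⟨g, b, c⟩ := (h.sylX (show xc t0 by decide)).cj_sub p2 (zpowers_le.2 a2)
    (pig_zpowers.2 (pie_of_pow p2 ((pow_two a).trans (cjsq e (by decide)))))
  obtain ⟨r, r1, r2, r3⟩ := h.exr
  have i : Cj C1[ι t0] (ι z0) a := by
    refine Cj.trans ?_ (Cj.symm ⟨g, b, rfl⟩)
    rcases mem_V (h.zP (a1.trans (cj_g g a)) (c (mem_cj_conj.2 (mem_zpowers a)))) (by
      rw [← e]; simpa using h.ne_one (show z0 ≠ 1 by decide)) with j | j | j <;> rw [j]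
    exacts [Cj.refl _ _, Cj.symm ⟨r, r1, r2⟩, ⟨r, r1, r3⟩]
  refine ⟨i, ?_⟩
  obtain ⟨m, m1, rfl⟩ := i
  refine kder m1 ?_
  have := kcm (map_C1 (ι := ι) t0 (mem_im (show v0 ∈ C1[t0] by decide))) h.sK
  rwa [← map_inv, ← map_inv, ← map_mul, ← map_mul, ← map_mul,
    show v0 * s0 * v0⁻¹ * s0⁻¹ = z0 by decide] at this

theorem invR (a1 : w ∈ ⁅C1[ι t0], C1[ι t0]⁆) (a2 : w * w = 1) (a3 : w ≠ 1) : Cj ⊤ (ι z0) w := by
  obtain ⟨g, b, c⟩ := (h.sylX (show xc t0 by decide)).cj_sub p2 (zpowers_le.2 (der_le _ a1))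
    (pig_zpowers.2 (pie_of_pow p2 ((pow_two w).trans a2)))
  obtain ⟨x, i, j⟩ := h.foc o ⟨c (mem_cj_conj.2 (mem_zpowers w)), kder b a1⟩
  refine (h.fz x (E_zc x (V_E i) ?_)).symm.trans (j ▸ (cj_g g w).symm)
  rintro rfl
  exact a3 (by simpa using j.symm)

theorem inV (a1 : g ∈ C1[ι t0]) (c1 : Cj ⊤ (ι z0) a) (c2 : a ∈ C1[ι t0])
    (e : a * (g * ι z0 * g⁻¹) = g * ι z0 * g⁻¹ * a) : g⁻¹ * a * g⁻¹⁻¹ ∈ V0.map ι :=
  h.zP (c1.trans (cj_g _ _)) (h.inP o (mul_mem (mul_mem (inv_mem a1) c2) (inv_mem (inv_mem a1))) (by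
    calc _ = g⁻¹ * (a * (g * ι z0 * g⁻¹)) * a⁻¹ * g := by group
      _ = _ := by rw [e]; group))

theorem tn : ι t0 ∉ ⁅C1[ι t0], C1[ι t0]⁆ := fun a =>
  (show t0 ∉ V0 by decide) (h.mem_iff.1 (h.foc o ⟨mem_im (mem_C1_self _), a⟩))

/-- pairs belonging to `t` -/
theorem pair (a1 : Cj ⊤ (ι z0) a) (b1 : Cj ⊤ (ι t0) b) : ι t0 ∈ zpowers (a * b) ↔
    a ∈ C1[ι t0] ∧ b * ι t0 ∈ C1[ι t0] ∧ Cj ⊤ (ι z0) (b * ι t0) ∧ (a = b * ι t0 ∨ a * b ≠ b * a) := by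
  have t2 : ι t0 * ι t0 = 1 := by rw [← map_mul, show t0 * t0 = 1 by decide, map_one]
  have a2 : a * a = 1 := by obtain ⟨g, -, e⟩ := a1; exact cjsq e (by decide)
  have b2 : b * b = 1 := by obtain ⟨g, -, e⟩ := b1; exact cjsq e (by decide)
  have an : a ≠ 1 := by
    obtain ⟨g, -, e⟩ := a1
    rw [← e]; simpa using h.ne_one (show z0 ≠ 1 by decide)
  have t1 := h.ne_one (show t0 ≠ 1 by decide)
  constructor
  · intro e
    obtain ⟨n, e⟩ := (Submonoid.mem_powers_iff _ _).1 ((mem_powers_iff_mem_zpowers).2 e)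
    have i1 : a * ι t0 * a⁻¹ = ι t0 := by
      rw [← HJ.inv_eq_of_sq t2]
      nth_rw 1 [HJ.inv_eq_of_sq t2]
      rw [← e, ← conj_pow, ← inv_pow, mul_inv_rev, HJ.inv_eq_of_sq a2, HJ.inv_eq_of_sq b2, ← mul_assoc a a, a2,
        one_mul]
    have aK : a ∈ C1[ι t0] := mem_C1.2 (mul_inv_eq_iff_eq_mul.1 i1)
    have abK : a * b ∈ C1[ι t0] := mem_C1.2 (by rw [← e, ← pow_succ, ← pow_succ'])
    have bK : b ∈ C1[ι t0] := (mul_mem_cancel_left aK).1 abK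
    have sq : (a * b) ^ 2 ∈ ⁅C1[ι t0], C1[ι t0]⁆ := by
      have := kcm aK bK
      rwa [HJ.inv_eq_of_sq a2, HJ.inv_eq_of_sq b2, mul_assoc _ a b, ← pow_two] at this
    obtain ⟨j, rfl | rfl⟩ := Nat.even_or_odd' n
    · exact (h.tn o (by simpa only [← pow_mul, e] using pow_mem sq j)).elim
    have bt : b * ι t0 ∈ ⁅C1[ι t0], C1[ι t0]⁆ := by
      have := mul_mem (kder bK (pow_mem sq j)) (kder bK (h.zK o a1 aK).2)
      rwa [conj_mul, HJ.inv_eq_of_sq b2, ← pow_mul, mul_assoc, mul_assoc, ← pow_succ, e] at this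
    refine ⟨aK, der_le _ bt, h.invR o bt ?_ fun i => ?_, ?_⟩
    · rw [mul_assoc, ← mul_assoc _ b, ← mem_C1.1 bK, mul_assoc, t2, mul_one, b2]
    · have i2 : b = ι t0 := by rw [eq_inv_of_mul_eq_one_left i, HJ.inv_eq_of_sq t2]
      have i3 : (a * b) ^ 2 = 1 := by
        rw [pow_two, i2, mul_assoc, ← mul_assoc _ a, ← mem_C1.1 aK, mul_assoc, t2, mul_one, a2]
      rw [pow_succ, pow_mul, i3, one_pow, one_mul, i2] at e
      exact an (by simpa using e)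
    · refine (em (a * b = b * a)).imp (fun i => ?_) id
      have i3 : (a * b) ^ 2 = 1 := by rw [pow_two, mul_assoc, ← mul_assoc b, ← i, mul_assoc, b2, mul_one, a2]
      rw [pow_succ, pow_mul, i3, one_pow, one_mul] at e
      rw [← e, i, ← mul_assoc, b2, one_mul]
  · rintro ⟨aK, cK, c1, e | e⟩
    · have bK : b ∈ C1[ι t0] := (mul_mem_cancel_right (mem_C1_self _)).1 cK
      rw [e, mem_C1.1 bK, mul_assoc, b2, mul_one]; exact mem_zpowers _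
    have bK : b ∈ C1[ι t0] := (mul_mem_cancel_right (mem_C1_self _)).1 cK
    rcases HJ.dih aK bK a2 b2 with ⟨u, -, -, i⟩ | ⟨w, wK, w1, w2, w3, w4, n, w5⟩
    · exact (h.ne ((a1.trans ⟨u, trivial, i⟩).trans b1.symm)).elim
    have cm : Commute (a * b) (ι t0) := mem_C1.1 (mul_mem aK bK)
    have wt : Commute w (ι t0 ^ n) := (show Commute w (ι t0) from mem_C1.1 wK).pow_right n
    have m : w * ι t0 ^ n ∈ ⁅C1[ι t0], C1[ι t0]⁆ := by
      rw [w5, ← cm.mul_pow, mul_assoc]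
      exact pow_mem (mul_mem (h.zK o a1 aK).2 (h.zK o c1 cK).2) n
    have m2 : w * ι t0 ^ n * (w * ι t0 ^ n) = 1 := by
      rw [← pow_two, wt.mul_pow, pow_two w, w2, ← pow_mul, mul_comm, pow_mul, pow_two, t2, one_pow, one_mul]
    by_cases m1 : w * ι t0 ^ n = 1
    · have : w = ι t0 := by
        obtain ⟨j, rfl | rfl⟩ := Nat.even_or_odd' n
        · rw [pow_mul, pow_two, t2, one_pow, mul_one] at m1; exact (w1 m1).elim
        · rw [pow_succ, pow_mul, pow_two, t2, one_pow, one_mul] at m1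
          rw [eq_inv_of_mul_eq_one_left m1, HJ.inv_eq_of_sq t2]
      rw [← this, w5]; exact pow_mem (mem_zpowers _) n
    obtain ⟨g, g1, g2⟩ := (h.zK o (h.invR o m m2 m1) (der_le _ m)).1
    have ct : ∀ x ∈ C1[ι t0], w * x = x * w → x * (g * ι z0 * g⁻¹) = g * ι z0 * g⁻¹ * x := fun x i j => by
      rw [g2]
      exact (Commute.mul_right (show Commute x w from j.symm)
        ((show Commute x (ι t0) from mem_C1.1 i).pow_right n)).eq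
    have j := le_C_iff.1 (ab_V.map ι).1 _ (h.inV o g1 a1 aK (ct a aK w3)) _ (h.inV o g1 c1 cK (ct _ cK (by
      rw [← mul_assoc, w4, mul_assoc, mem_C1.1 wK, mul_assoc])))
    rw [conj_mul, conj_mul, mul_left_inj, mul_right_inj, mul_assoc b, ← mem_C1.1 aK, ← mul_assoc, ← mul_assoc,
      mul_left_inj] at j
    exact (e j).elim

theorem exy : ∃ y ∈ ⁅C1[ι t0], C1[ι t0]⁆, y ^ 3 = 1 ∧ y * ι z0 * y⁻¹ = ι (v0 * z0) ∧
    y * ι (v0 * z0) * y⁻¹ = ι v0 := by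
  obtain ⟨g, g1, gW, gZ⟩ := h.exr
  have gU : g * ι (v0 * z0) * g⁻¹ = ι v0 := by
    rw [map_mul, ← conj_mul, gW, gZ, ← map_mul, show z0 * (v0 * z0) = v0 by decide]
  have sZ := kcs (ι := ι) s0 z0 z0 (by decide)
  have sW := kcs (ι := ι) s0 v0 (v0 * z0) (by decide)
  have sU := kcs (ι := ι) s0 (v0 * z0) v0 (by decide)
  have yZ := kc2 (kc2 (kc2 (kci sZ) (kci gW)) sW) gU
  have yW := kc2 (kc2 (kc2 (kci sU) (kci gZ)) sZ) gZ
  have yU := kc2 (kc2 (kc2 (kci sW) (kci gU)) sU) gW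
  have m : g * (ι s0 * (g⁻¹ * (ι s0)⁻¹)) ∈ ⁅C1[ι t0], C1[ι t0]⁆ := by simpa [mul_assoc] using kcm g1 h.sK
  generalize g * (ι s0 * (g⁻¹ * (ι s0)⁻¹)) = y at yZ yW yU m
  have m3 := mul_mem m (mul_mem m m)
  obtain ⟨x, i, j⟩ := h.foc o ⟨h.inP o (der_le _ m3) (kc2 (kc2 yZ yW) yU), m3⟩
  refine ⟨y * y, mul_mem m m, ?_, kc2 yZ yW, kc2 yU yZ⟩
  rw [show (y * y) ^ 3 = (y * (y * y)) ^ 2 by simp only [pow_succ, pow_zero, one_mul, mul_assoc], ← j, ← map_pow,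
    ab_V.pow _ i, map_one]

open Finset in
/-- `C(t)'` is `A₄` or `A₅` -/
theorem kt : (∀ a ∈ C1[ι t0], Cj ⊤ (ι z0) a → a ∈ V0.map ι) ∨ (#C1[ι t0] = 240 ∧
    Nat.card {p : G × G // IsConj (ι z0) p.1 ∧ IsConj (ι t0) p.2 ∧ ι t0 ∈ zpowers (p.1 * p.2)} = 195) := by
  classical
  have := Fintype.ofFinite G
  obtain ⟨y, y1, y3, yZ, yU⟩ := h.exy o
  have VP : V0.map ι ≤ C1[ι t0] := (map_mono fun x => (by decide +kernel : ∀ x ∈ V0, x ∈ C1[t0]) x).trans (map_C1 _)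
  have vR : ∀ x ∈ V0, ι x ∈ ⁅C1[ι t0], C1[ι t0]⁆ := fun x i => by
    by_cases e : x = 1
    · rw [e, map_one]; exact one_mem _
    · exact (h.zK o (h.fz x (E_zc x (V_E i) e)).symm (VP (mem_im i))).2
  have ZU : ι z0 * ι (v0 * z0) = ι v0 := by rw [← map_mul, show z0 * (v0 * z0) = v0 by decide]
  have z2 : ι z0 * ι z0 = 1 := by rw [← map_mul, show z0 * z0 = 1 by decide, map_one]
  have z1 := h.ne_one (show z0 ≠ 1 by decide)
  have H : HJ.A4.Hyp (L := ↥⁅C1[ι t0], C1[ι t0]⁆) ⟨ι z0, vR _ (by decide)⟩ ⟨ι (v0 * z0), vR _ (by decide)⟩ ⟨y, y1⟩ := by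
    refine ⟨Subtype.ext z2, fun e => z1 (congrArg Subtype.val e), Subtype.ext y3, Subtype.ext yZ.symm,
      Subtype.ext (ZU.trans yU.symm), fun e => (show v0 * z0 ≠ z0 by decide) (h.inj (congrArg Subtype.val e)),
      fun x e => (em (x = 1)).imp id fun n => ?_⟩
    rcases mem_V (h.foc o ⟨h.inP o (der_le _ x.2) (mul_inv_eq_iff_eq_mul.2 (congrArg Subtype.val e)), x.2⟩)
      (fun i => n (Subtype.ext i)) with i | i | i
    exacts [.inl (Subtype.ext i), .inr (.inr (Subtype.ext (i.trans ZU.symm))), .inr (.inl (Subtype.ext i))]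
  have sq : ∀ a, Cj ⊤ (ι z0) a → a * a = 1 ∧ a ≠ 1 := fun a ⟨g, _, e⟩ =>
    ⟨cjsq e (by decide), by rw [← e]; simpa using z1⟩
  refine (card60 H).imp (fun i a aK a1 => ?_) fun c => ⟨?_, ?_⟩
  · rcases (H.g2 (i ⟨a, (h.zK o a1 aK).2⟩)).1 (Subtype.ext (sq a a1).1) with j | j | j | j <;>
      rw [show a = _ from congrArg Subtype.val j]
    exacts [one_mem _, mem_im (by decide), mem_im (by decide), mul_mem (mem_im (by decide)) (mem_im (by decide))]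
  · have pr : IsProd ⁅C1[ι t0], C1[ι t0]⁆ (C1[t0].map ι) C1[ι t0] := ⟨der_le _, map_C1 _, fun m i => by
      obtain ⟨r, e⟩ := isConj_iff.1 (H.isConj (u := ⟨m * ι z0 * m⁻¹, kder i (vR _ (by decide))⟩)
        (Subtype.ext (sq _ (cj_g m _)).1) fun j => (sq _ (cj_g m _)).2 (congrArg Subtype.val j))
      exact ⟨r, r.2, r⁻¹ * m, h.inP o (mul_mem (inv_mem (der_le _ r.2)) i)
        (kc2 rfl (kci (congrArg Subtype.val e))), by simp⟩⟩
    have e := pr.card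
    rw [inf_comm, le_antisymm (h.foc o) (le_inf (map_mono fun x => (by decide +kernel : ∀ x ∈ V0, x ∈ C1[t0]) x)
      (by rintro _ ⟨x, i, rfl⟩; exact vR x i)), h.card, h.card, card_V0, c, card_sub,
      cardC_xc t0 (by decide)] at e
    omega
  set J := univ.filter fun a : G => Cj ⊤ (ι z0) a ∧ a ∈ C1[ι t0] with hJ
  have mJ : ∀ a, a ∈ J ↔ Cj ⊤ (ι z0) a ∧ a ∈ C1[ι t0] := by simp [hJ]
  have cJ : J.card = 15 := by
    have e := Inv.card_centralizer_mul_card_class (G := ↥⁅C1[ι t0], C1[ι t0]⁆) ⟨ι z0, vR _ (by decide)⟩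
    rw [H.cardV, c, Nat.card_congr (β := {a // Cj ⊤ (ι z0) a ∧ a ∈ C1[ι t0]})
      ⟨fun a => ⟨a.1, by
        obtain ⟨r, e⟩ := isConj_iff.1 a.2
        exact ⟨⟨r, trivial, congrArg Subtype.val e⟩, der_le _ a.1.2⟩⟩,
      fun a => ⟨⟨a, (h.zK o a.2.1 a.2.2).2⟩, H.isConj (Subtype.ext (sq _ a.2.1).1)
        fun j => (sq _ a.2.1).2 (congrArg Subtype.val j)⟩, fun _ => rfl, fun _ => rfl⟩,
      Nat.subtype_card J mJ] at e
    omega
  have t2 : ι t0 * ι t0 = 1 := by rw [← map_mul, show t0 * t0 = 1 by decide, map_one]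
  rw [Nat.subtype_card (univ.filter fun p : G × G => IsConj (ι z0) p.1 ∧ IsConj (ι t0) p.2 ∧
    ι t0 ∈ zpowers (p.1 * p.2)) (by simp), card_eq_sum_card_fiberwise (f := Prod.fst) (t := J) fun p i => by
      simp only [coe_filter, mem_univ, true_and, Set.mem_ofPred_eq] at i
      exact (mJ _).2 ⟨cj_iff.2 i.1, ((h.pair o (cj_iff.2 i.1) (cj_iff.2 i.2.1)).1 i.2.2).1⟩,
    sum_const_nat (m := 13), cJ]
  intro a i
  obtain ⟨a1, aK⟩ := (mJ a).1 i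
  obtain ⟨g, g1, rfl⟩ := (h.zK o a1 aK).1
  have mem : ∀ x ∈ V0, x ≠ 1 → g * ι x * g⁻¹ ∈ J := fun x i j => (mJ _).2
    ⟨(h.fz x (E_zc x (V_E i) j)).symm.trans (cj_g _ _), mul_mem (mul_mem g1 (VP (mem_im i))) (inv_mem g1)⟩
  have c2 : (J \ {g * ι v0 * g⁻¹, g * ι (v0 * z0) * g⁻¹}).card = 13 := by
    rw [card_sdiff_of_subset (by
      intro x i
      rcases mem_insert.1 i with rfl | i
      · exact mem _ (by decide) (by decide)
      · rw [mem_singleton.1 i]; exact mem _ (by decide) (by decide)), cJ,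
      card_pair (by simpa using fun e => (show v0 ≠ v0 * z0 by decide) (h.inj e))]
  have tc : ∀ b, b * ι t0 ∈ C1[ι t0] → (g * ι z0 * g⁻¹ * (b * ι t0) = b * ι t0 * (g * ι z0 * g⁻¹) ↔
      g * ι z0 * g⁻¹ * b = b * (g * ι z0 * g⁻¹)) := fun b _ => by
    rw [mul_assoc b, ← mem_C1.1 aK, ← mul_assoc _ b, ← mul_assoc b, mul_left_inj]
  rw [← c2]
  refine card_bij (fun p _ => p.2 * ι t0) (fun p i => ?_) (fun p i q j e => ?_) fun c i => ?_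
  · simp only [mem_filter, mem_univ, true_and] at i
    obtain ⟨⟨i1, i2, i3⟩, i4⟩ := i
    obtain ⟨-, j1, j2, j3⟩ := (h.pair o (cj_iff.2 i1) (cj_iff.2 i2)).1 i3
    rw [i4, ne_eq, ← tc _ j1] at j3
    refine mem_sdiff.2 ⟨(mJ _).2 ⟨j2, j1⟩, fun m => ?_⟩
    rcases (mem_insert.1 m).imp id mem_singleton.1 with m | m <;> rw [m] at j3 <;>
      simp only [conj_mul, mul_left_inj, mul_right_inj, ← map_mul, h.eq] at j3 <;> revert j3 <;> decide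
  · exact Prod.ext ((mem_filter.1 i).2.trans (mem_filter.1 j).2.symm) (mul_right_cancel e)
  · obtain ⟨i1, i2⟩ := mem_sdiff.1 i
    obtain ⟨c1, cK⟩ := (mJ c).1 i1
    have e : c * ι t0 * ι t0 = c := by rw [mul_assoc, t2, mul_one]
    have b1 : Cj ⊤ (ι t0) (c * ι t0) := by
      obtain ⟨k, k1, rfl⟩ := (h.zK o c1 cK).1
      refine (h.fx (z0 * t0) (by decide)).symm.trans ⟨k, trivial, ?_⟩
      rw [map_mul, ← conj_mul, kfix k1]
    refine ⟨(g * ι z0 * g⁻¹, c * ι t0), mem_filter.2 ⟨mem_filter.2 ⟨mem_univ _, cj_iff.1 a1, cj_iff.1 b1,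
      (h.pair o a1 b1).2 ⟨aK, e.symm ▸ cK, e.symm ▸ c1, ?_⟩⟩, rfl⟩, e⟩
    rw [ne_eq, ← tc _ (e.symm ▸ cK), e]
    refine (em _).symm.imp (fun j => ?_) id
    rcases mem_V (h.inV o g1 c1 cK (not_not.1 j).symm) (fun k => (sq c c1).2 (conj_eq_one_iff.1 k)) with k | k | k
    · rw [← k]; group
    · exact (i2 (mem_insert.2 (.inl (by rw [← k]; group)))).elim
    · exact (i2 (mem_insert.2 (.inr (mem_singleton.2 (by rw [← k]; group))))).elim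
end Pat

end Cfsg.Agent.MT
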