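import Cfsg.Agent.MT.Def
import Cfsg.Agent.Blk.G2S3
import Cfsg.Agent.S0421
import Cfsg.Agent.S0382
import Cfsg.Agent.Gol.M24
import Cfsg.Agent.Gol.Word
import Cfsg.Prelude.Def_Spor_Mathieu

/-! # The Sylow `2`-subgroup of `M₁₂` is `Sm`; recognition by the order -/

set_option autoImplicit false
set_option linter.unusedVariables false
set_option linter.unusedSectionVars false

namespace Cfsg.Agent.MT
open Cfsg Cfsg.Agent.BG Subgroup PHom
open Cfsg.Agent.S3F (p2 SCl)

universe u

variable {G : Type u} [Group G] [Finite G] {ι : Sm →* G} {H K X Y : Subgroup G} {A B : Subgroup Sm} {x y : Sm}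
  {a b g w : G}

section model
open Cfsg.Agent.Gol
open scoped Pointwise

/-- codes of the generators of a Sylow `2`-subgroup of `M₁₂` -/
def mx : ℕ := 226296670352243315125298998951682465
def my : ℕ := 984570723434385888903846601244742049
def mi : ℕ := 226292550619035409301769699335555073
def mw : ℕ := 856069422256039201821479785057232397

def powc (c n : ℕ) : ℕ := Nat.rec idc (fun _ ih => comp ih c) n

theorem rep_pow {c : ℕ} {g : M24} (h : Rep c g) (n : ℕ) : Rep (powc c n) (g ^ n) := by
  induction n with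
  | zero => rw [pow_zero]; exact rep_one
  | succ n ih => rw [pow_succ]; exact ih.mul h

theorem rep_eq {c d : ℕ} {g h : M24} (h1 : Rep c g) (h2 : Rep d h) (e : c = d) : g = h := h1.eq (e ▸ h2)

theorem sq_eq : toF 340831 = Cfsg.Spor.squareDodecad := by decide +kernel

/-- the stabiliser of the dodecad of squares -/
abbrev SD : Subgroup M24 := MulAction.stabilizer M24 (toF 340831)

theorem SD_map : SD.map M24.subtype = Cfsg.Spor.M12 := by
  ext g
  rw [Cfsg.Spor.M12, ← sq_eq]
  constructor
  · rintro ⟨g, hg, rfl⟩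
    exact ⟨g.2, hg⟩
  · rintro ⟨h1, h2⟩
    exact ⟨⟨g, h1⟩, h2, rfl⟩

noncomputable def eSD : SD ≃* Cfsg.Spor.M12 :=
  (SD.equivMapOfInjective _ (subtype_injective _)).trans (MulEquiv.subgroupCongr SD_map)

theorem card12 : Nat.card Cfsg.Spor.M12 = 95040 := by
  rw [← Nat.card_congr eSD.toEquiv]; exact S0382.result _ D0_mem

noncomputable def el (c : ℕ) (h : inSt 0 [340831] c = true) : SD :=
  ⟨pm c, (pm_mem_St h).2 _ List.mem_cons_self⟩

theorem exists_M : ∃ φ : Sm →* SD, Function.Injective φ := by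
  have hx : inSt 0 [340831] mx = true := by decide +kernel
  have hy : inSt 0 [340831] my = true := by decide +kernel
  have hi : inSt 0 [340831] mi = true := by decide +kernel
  have hw : inSt 0 [340831] mw = true := by decide +kernel
  have rx := rep_pm (inSt_inM hx)
  have ry := rep_pm (inSt_inM hy)
  have ri := rep_pm (inSt_inM hi)
  have rw' := rep_pm (inSt_inM hw)
  have x4 : el mx hx ^ 4 = 1 := Subtype.ext (rep_eq (rep_pow rx 4) rep_one (by decide +kernel))
  have y4 : el my hy ^ 4 = 1 := Subtype.ext (rep_eq (rep_pow ry 4) rep_one (by decide +kernel))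
  refine G2S.exists_hom (N := 4) (by decide) (x := el mx hx) (y := el my hy) (i := el mi hi) (w := el mw hw)
    (Subtype.ext (rep_eq (rx.mul ry) (ry.mul rx) (by decide +kernel))) x4 y4
    (eq_inv_mul_iff_mul_eq.2 (Subtype.ext (rep_eq (rx.mul (ri.mul rx)) ri (by decide +kernel))))
    (eq_inv_mul_iff_mul_eq.2 (Subtype.ext (rep_eq (ry.mul (ri.mul ry)) ri (by decide +kernel))))
    (Subtype.ext (rep_eq (ri.mul ri) rep_one (by decide +kernel)))
    (Subtype.ext (rep_eq (rw'.mul rx) (ry.mul rw') (by decide +kernel)))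
    (Subtype.ext (rep_eq (rw'.mul ry) (rx.mul rw') (by decide +kernel)))
    (Subtype.ext (rep_eq (rw'.mul rw') rep_one (by decide +kernel)))
    (Subtype.ext (rep_eq (rw'.mul ri) (ri.mul rw') (by decide +kernel))) fun a b h => ?_
  rw [pow_eq_pow_mod a x4, pow_eq_pow_mod b y4] at h
  have key : ∀ a < 4, ∀ b < 4, (∀ i < 24, ap (comp (powc mx a) (powc my b)) i = i) → a = 0 ∧ b = 0 := by
    decide +kernel
  have := key _ (Nat.mod_lt a (by decide)) _ (Nat.mod_lt b (by decide)) fun i hi' => by
    by_contra e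
    exact ((rep_pow rx _).mul (rep_pow ry _)).ne_one hi' e (congrArg Subtype.val h)
  exact ⟨Nat.dvd_of_mod_eq_zero this.1, Nat.dvd_of_mod_eq_zero this.2⟩

end model

theorem exists_iota (S : Sylow 2 G) (P : Sylow 2 ↥Cfsg.Spor.M12)
    (hS : Nonempty (↥(S : Subgroup G) ≃* ↥(P : Subgroup ↥Cfsg.Spor.M12))) : ∃ ι : Sm →* G, TM ι := by
  obtain ⟨e⟩ := hS
  obtain ⟨φ, i0⟩ := exists_M
  let ι : Sm →* Cfsg.Spor.M12 := eSD.toMonoidHom.comp φ
  have i : Function.Injective ι := eSD.injective.comp i0
  have c := card12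
  let P' : Sylow 2 Cfsg.Spor.M12 := Sylow.ofCard ι.range (by
    rw [← Nat.card_congr (MonoidHom.ofInjective i).toEquiv, Sm.card, c,
      show 95040 = 2 ^ 6 * 1485 from rfl, Nat.factorization_mul (by decide) (by decide), Nat.factorization_pow]
    simp [Nat.factorization_eq_zero_of_not_dvd (show ¬ 2 ∣ 1485 by decide), Nat.prime_two.factorization])
  let E : Sm ≃* S := ((MonoidHom.ofInjective i).trans (P'.equiv P)).trans e.symm
  refine ⟨(S : Subgroup G).subtype.comp E.toMonoidHom, (subtype_injective _).comp E.injective, ?_⟩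
  rw [← MonoidHom.map_range, MonoidHom.range_eq_top.2 E.surjective, ← MonoidHom.range_eq_map, range_subtype]
  exact syl_top p2 S

theorem iso12 [IsSimpleGroup G] (c : Nat.card G = 95040) : Cfsg.Spor.IsoM12 G := by
  obtain ⟨e⟩ := S0421.result (G := G) ⟨inferInstance, c⟩ _ Gol.D0_mem
  exact ⟨e.trans eSD⟩

end Cfsg.Agent.MT
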