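import Cfsg.Agent.MT.P0
import Cfsg.Agent.G75.B
import Cfsg.Agent.H8.SE2
import Cfsg.Agent.ZD.Fin

/-! # `O(C(z)) = 1` -/

set_option autoImplicit false
set_option linter.unusedVariables false
set_option linter.unusedSectionVars false

namespace Cfsg.Agent.MT
open Cfsg Cfsg.Agent.BG Subgroup PHom
open Cfsg.Agent.S3F (p2)

universe u

variable {G : Type u} [Group G] [Finite G] {ι : Sm →* G} {H K X Y : Subgroup G} {A B : Subgroup Sm} {x y : Sm}
  {a b g w : G}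

open Cfsg.Agent.G75 (Q Q_le Q_odd nQ)
open Cfsg.Agent.SFT (Gen le_Gen Gen_le norm_Gen)

namespace Sig
theorem cj_Q (g a : G) : BG.cj g (Q a) = Q (g * a * g⁻¹) := by rw [Q, cj_O, cj_C1]

theorem N_Gen (V : Subgroup G) : N[V] ≤ N[Gen V Q] := fun g hg =>
  mem_N_of_cj_le (cj_le_iff.2 (Gen_le fun a ha a1 => cj_le_iff.1 (by
    rw [cj_Q]; exact le_Gen (conj_mem hg ha) (by simpa using a1))))

/-- `x, y, w` generate a group of order `8` all of whose involutions are conjugate to `z` -/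
def Pure (x y w : Sm) : Prop := zc x ∧ zc y ∧ zc (x * y) ∧ zc w ∧ zc (x * w) ∧ zc (y * w) ∧ zc (x * y * w)
instance (x y w : Sm) : Decidable (Pure x y w) := inferInstanceAs (Decidable (_ ∧ _))
theorem d1 : ∀ x, zc x → ∀ y, zc y → zc (x * y) → ∀ w, Pure x y w → ∀ v ∈ [z0, v0],
    v ∈ [x, y, x * y, w, x * w, y * w, x * y * w] := by decide +kernel
theorem d2 : ∀ x, zc x → ∃ w ∈ C1[x], Pure z0 v0 w ∧ z0 ∈ C1[x] ∧ v0 ∈ C1[x] := by decide +kernel
theorem d3 : ∀ x, zc x → x ≠ z0 → zc (z0 * x) := by decide +kernel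
theorem E_c (h : a ∈ E0.map ι) : E0.map ι ≤ C1[a] := (ab_E.map ι).abel.trans (C_le_C1 h)
end Sig
open Sig

namespace Pat
variable (h : Pat ι)
include h

theorem V_le {w : Sm} (l : BG.cj g (A.map ι) ≤ ι.range) (a1 : z0 ∈ A) (a2 : v0 ∈ A) (a3 : w ∈ A)
    (p : Pure z0 v0 w) : V0.map ι ≤ BG.cj g (A.map ι) := by
  obtain ⟨σ, q⟩ := h.pull l
  have b1 := mul_mem a1 a2
  have b2 := mul_mem a1 a3
  have b3 := mul_mem a2 a3
  have b4 := mul_mem b1 a3
  obtain ⟨p1, p2, p3, p4, p5, p6, p7⟩ := p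
  have c1 := h.pzc q a1 p1
  have c2 := h.pzc q a2 p2
  have c3 := q.mul _ a1 _ a2 ▸ h.pzc q b1 p3
  have k : ∀ v ∈ [z0, v0], ι v ∈ BG.cj g (A.map ι) := fun v i => by
    have := d1 _ c1 _ c2 c3 (σ w) ⟨c1, c2, c3, h.pzc q a3 p4, q.mul _ a1 _ a3 ▸ h.pzc q b2 p5,
      q.mul _ a2 _ a3 ▸ h.pzc q b3 p6, q.mul _ a1 _ a2 ▸ q.mul _ b1 _ a3 ▸ h.pzc q b4 p7⟩ v i
    have m1 := q.mem a1
    have m2 := q.mem a2
    have m3 := q.mem a3
    simp only [List.mem_cons, List.not_mem_nil, or_false] at this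
    rcases this with e | e | e | e | e | e | e <;> rw [e] <;> try simp only [map_mul]
    exacts [m1, m2, mul_mem m1 m2, m3, mul_mem m1 m3, mul_mem m2 m3, mul_mem (mul_mem m1 m2) m3]
  intro a ha
  by_cases n : a = 1
  · exact n ▸ one_mem _
  rcases mem_V ha n with rfl | rfl | rfl
  · exact k _ (by simp)
  · exact k _ (by simp)
  · rw [map_mul]; exact mul_mem (k _ (by simp)) (k _ (by simp))

theorem bal (ha : a ∈ E0.map ι) (a1 : a ≠ 1) (l : X ≤ C1[a]) (od : PiG {2}ᶜ X) (n : E0.map ι ≤ N[X]) : X ≤ Q a := by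
  obtain ⟨x, b, rfl⟩ := ha
  obtain ⟨g, e, d⟩ := h.toZ (h.fz x (E_zc x b fun e => a1 (e ▸ map_one ι)))
  rw [← cj_le_cj (g := g), cj_Q, e]
  exact h.pz (x := v0) (by decide) (by decide) (by rw [← e, ← cj_C1]; exact cj_mono _ l) (od.cj g)
    (norm_cj.2 n (h.V_le ((cj_mono _ (map_mono (ab_E.abel.trans (C_le_C1 b)))).trans d) (by decide) (by decide)
      (show p0 ∈ E0 by decide) (by decide) (mem_im (by decide))))

theorem W_odd : PiG {2}ᶜ (Gen (E0.map ι) Q) :=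
  SFT.famp (SFT.complete (θ := Q) ⟨abelem_iff.1 (ab_E.map ι), fun e _ _ => Q_le e,
    fun e _ _ => (pin_compl_cop p2).1 (Q_odd e), fun e he _ => nQ (E_c he),
    fun e he e1 f hf f1 => h.bal hf f1 inf_le_right ((Q_odd e).of_le inf_le_left)
      (normI (nQ (E_c he)) (normsG (E_c hf))),
    fun e _ _ => H8.sol_of_odd (Q_odd e)⟩ (by rw [h.card, card_E0]; omega))

theorem le_W (od : PiG {2}ᶜ X) (n : V0.map ι ≤ N[X]) : X ≤ Gen (E0.map ι) Q := by
  have ab := ab_V.map ι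
  refine cop_gen_cent1 ab.abel (GF.nc_of_four ab (by rw [h.card, card_V0])) n ((map_pig _).coprime od) fun a ha a1 =>
    le_trans ?_ (le_Gen (map_mono V_E ha) a1)
  have n' : V0.map ι ≤ N[X ⊓ C1[a]] := normI n (normsG (ab.abel.trans (C_le_C1 ha)))
  obtain ⟨x, b, rfl⟩ := ha
  by_cases c : x ∈ Z0
  · rw [((mem_Z0 x).1 c).resolve_left fun e => a1 (e ▸ map_one ι)] at n' ⊢
    exact h.pz (x := v0) (by decide) (by decide) inf_le_right (od.of_le inf_le_left) (n' (mem_im (by decide)))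
  obtain ⟨g, σ, q, e, -, i, j⟩ := h.rho b c
  have e' := (q.eq x (V_T b)).symm.trans (congrArg ι e)
  rw [← cj_le_cj (g := g), cj_Q, e']
  exact h.pz (V_E (i z0 (by decide))) j (by rw [← e', ← cj_C1]; exact cj_mono _ inf_le_right)
    ((od.of_le inf_le_left).cj g) (norm_cj.2 n' (by
      rw [q.eq z0 (by decide)]; exact mem_cj_conj.2 (mem_im (by decide))))

theorem H_W : C1[ι z0] ≤ N[Gen (E0.map ι) Q] :=
  h.normQ.trans (sup_le ((le_Gen (θ := Q) (mem_im (by decide)) (h.ne_one (by decide))).trans (normG _))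
    (inf_le_right.trans (h.NQ_NE.trans (N_Gen _))))

theorem ctrl (a : zc x) : Cj N[Gen (E0.map ι) Q] (ι x) (ι z0) := by
  obtain ⟨g, e, d⟩ := h.toZ (h.fz x a)
  obtain ⟨w, a3, p, a1, a2⟩ := d2 x a
  exact ⟨g, mem_N_of_cj_le (h.le_W (h.W_odd.cj g) ((h.V_le d a1 a2 a3 p).trans
    (norm_cj.2 ((map_le _).trans (rg_cen.trans h.H_W))))), e⟩
end Pat

theorem Pat.O_bot [IsSimpleGroup G] (h : Pat ι) : O[{2}ᶜ](C1[ι z0]) = ⊥ := by
  have m1 := h.H_W
  have oz := h.ord (x := z0) (by decide) (by decide)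
  have e : N[Gen (E0.map ι) Q] = ⊤ := by_contra fun n => by
    have se := ZD.s1175 n oz (m1 (mem_C1_self _)) h.syl rg_cen (fun g a => by
      obtain ⟨x, x2, c⟩ := h.inv_in (rg_cen.trans m1) a (cjsq rfl (by decide))
      obtain ⟨k, hk, f⟩ := c.trans (h.ctrl (h.zc_of ((cj_g g _).trans c.top)))
      exact (mul_mem_cancel_left hk).1 (m1 (mem_C1.2 (mul_inv_eq_iff_eq_mul.1 (Eq.trans (by group) f)))))
      fun g a b => by
      obtain ⟨x, x2, k, hk, c⟩ := h.inv_in rg_cen (w := g * ι z0 * g⁻¹) (mem_C1.2 a.symm) (cjsq rfl (by decide))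
      have ek : k * ι z0 * k⁻¹ = ι z0 := mul_inv_eq_iff_eq_mul.2 (mem_C1.1 hk)
      obtain ⟨m, hm, f⟩ := h.ctrl (d3 x (h.zc_of ((cj_g g _).trans ⟨k, trivial, c⟩)) (by
        rintro rfl
        exact b (by simpa using c.trans ek.symm)))
      have : ι z0 * (g * ι z0 * g⁻¹) = (m * k)⁻¹ * ι z0 * (m * k)⁻¹⁻¹ := by
        have i : ι (z0 * x) = k * (ι z0 * (g * ι z0 * g⁻¹)) * k⁻¹ := by rw [map_mul, ← conj_mul, c, ek]
        conv_rhs => rw [← f, i]
        group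
      rw [this, ← cj_C1]
      exact cj_le_of_mem m1 (normG _ (inv_mem (mul_mem hm (m1 hk))))
    exact h.ne (cj_iff.2 (Inv.se_isConj se oz (h.ord (by decide) (by decide))))
  have l : Q (ι z0) ≤ Gen (E0.map ι) Q := le_Gen (mem_im (by decide)) (h.ne_one (by decide))
  rcases (normal_iff.2 e.ge).eq_bot_or_eq_top with i | i
  · exact le_bot_iff.1 (i ▸ l)
  · exact (h.ne_one (show z0 ≠ 1 by decide) (((map_pig Z0).elt (mem_im (by decide))).eq_one
      (h.W_odd.elt (i ▸ mem_top _)))).elim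

end Cfsg.Agent.MT
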