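import Cfsg.Agent.MT.N3
import Cfsg.Agent.MT.Sig
import Cfsg.Agent.MT.Fus
import Cfsg.Agent.MT.Mod
import Cfsg.Agent.S0213

/-! # Simple groups with a Sylow `2`-subgroup of type `M₁₂` and two classes of involutions -/

set_option autoImplicit false
set_option linter.unusedVariables false
set_option linter.unusedSectionVars false

namespace Cfsg.Agent.MT
open Cfsg Cfsg.Agent.BG Subgroup PHom
open Cfsg.Agent.S3F (p2 SCl)

universe u

variable {G : Type u} [Group G] [Finite G] {ι : Sm →* G} {H K X Y : Subgroup G} {A B : Subgroup Sm} {x y : Sm}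
  {a b g w : G}

theorem main [IsSimpleGroup G] (S : Sylow 2 G) (P : Sylow 2 ↥Cfsg.Spor.M12)
    (hS : Nonempty (↥(S : Subgroup G) ≃* ↥(P : Subgroup ↥Cfsg.Spor.M12)))
    (h2 : ∃ x y : G, orderOf x = 2 ∧ orderOf y = 2 ∧ ¬ IsConj x y) : Cfsg.Spor.IsoM12 G := by
  obtain ⟨ι, h⟩ := exists_iota S P hS
  obtain ⟨ι, h⟩ := h.pat h2
  have o := h.O_bot
  obtain ⟨c, n⟩ := (h.kt o).resolve_left (h.n3 o)
  refine iso12 ?_
  rw [S0213.result (ι z0) (ι t0) (h.ord (by decide) (by decide)) (h.ord (by decide) (by decide))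
    (fun e => h.ne (cj_iff.2 e)) fun t e => (h.two (by rw [← pow_two, ← e, pow_orderOf_eq_one])
      (by rintro rfl; simp at e)).imp cj_iff.1 cj_iff.1, h.az o, n]
  exact congrArg₂ (· * 240 + · * 195) c (h.cardH o)

end Cfsg.Agent.MT
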