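import Cfsg.Agent.MT.Kt

/-! # `C(t)` is not `2 × S₄` -/

set_option autoImplicit false
set_option linter.unusedVariables false
set_option linter.unusedSectionVars false

namespace Cfsg.Agent.MT
open Cfsg Cfsg.Agent.BG Subgroup PHom
open Cfsg.Agent.S3F (p2 SCl)

universe u

variable {G : Type u} [Group G] [Finite G] {ι : Sm →* G} {H K X Y : Subgroup G} {A B : Subgroup Sm} {x y : Sm}
  {a b g w : G}

theorem V_comm (ha : a ∈ V0.map ι) (hb : b ∈ V0.map ι) : a * b = b * a := by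
  obtain ⟨x, hx, rfl⟩ := ha
  obtain ⟨y, hy, rfl⟩ := hb
  rw [← map_mul, ← map_mul, (by decide +kernel : ∀ x ∈ V0, ∀ y ∈ V0, x * y = y * x) x hx y hy]

/-- every conjugate of `z` commutes with an involution of `V` -/
theorem Pat.n3a (h : Pat ι) (o : O[{2}ᶜ](C1[ι z0]) = ⊥) (k : ∀ a ∈ C1[ι t0], Cj ⊤ (ι z0) a → a ∈ V0.map ι)
    (hw : Cj ⊤ (ι z0) w) : ∃ e ∈ V0.map ι, e ≠ 1 ∧ w * e = e * w := by
  have w2 : w * w = 1 := by
    obtain ⟨g, -, e⟩ := hw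
    exact cjsq e (by decide)
  have t2 : ι t0 * ι t0 = 1 := by rw [← map_mul, show t0 * t0 = 1 by decide, map_one]
  rcases HJ.dih (L := ⊤) (mem_top w) (mem_top (ι t0)) w2 t2 with ⟨u, -, -, e⟩ | ⟨i, -, i1, i2, iw, it, n, e⟩
  · exact (h.ne (hw.trans ⟨u, trivial, e⟩)).elim
  rcases h.two i2 i1 with c | ⟨g, -, c⟩
  · exact ⟨i, k i (mem_C1.2 it) c, i1, iw.symm⟩
  · have m : ι t0 ∈ zpowers (g⁻¹ * w * g⁻¹⁻¹ * (g⁻¹ * ι t0 * g⁻¹⁻¹)) := by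
      rw [conj_mul]
      refine ⟨(n : ℤ), ?_⟩
      show (g⁻¹ * (w * ι t0) * g⁻¹⁻¹) ^ (n : ℤ) = ι t0
      rw [zpow_natCast, conj_pow, ← e, ← c]
      group
    have a1 : Cj ⊤ (ι z0) (g⁻¹ * w * g⁻¹⁻¹) := hw.trans (cj_g _ _)
    obtain ⟨p1, p2, p3, -⟩ := (h.pair o a1 (cj_g g⁻¹ (ι t0))).1 m
    have cm := V_comm (k _ p1 a1) (k _ p2 p3)
    have e1 : g * (g⁻¹ * ι t0 * g⁻¹⁻¹ * ι t0) * g⁻¹ = ι t0 * i := by rw [← c]; group
    have c3 : Cj ⊤ (ι z0) (ι t0 * i) := p3.trans ⟨g, trivial, e1⟩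
    refine ⟨ι t0 * i, k _ (mem_C1.2 (by rw [mul_assoc, it])) c3, fun e => ?_, ?_⟩
    · obtain ⟨u, -, d⟩ := c3
      exact h.ne_one (show z0 ≠ 1 by decide) (conj_eq_one_iff.1 (d.trans e))
    · have e2 : g * (g⁻¹ * w * g⁻¹⁻¹) * g⁻¹ = w := by group
      rw [← e1, ← e2, conj_mul, conj_mul, cm]

theorem Pat.n3 (h : Pat ι) (o : O[{2}ᶜ](C1[ι z0]) = ⊥) (k : ∀ a ∈ C1[ι t0], Cj ⊤ (ι z0) a → a ∈ V0.map ι) :
    False := by
  -- a conjugate of `z` that does not commute with `z`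
  obtain ⟨w, hw, nw⟩ : ∃ w, Cj ⊤ (ι z0) w ∧ w * ι z0 ≠ ι z0 * w := by
    obtain ⟨g, -, e⟩ := h.fz p0 (by decide)
    refine ⟨g * ι u0 * g⁻¹, (h.fz u0 (by decide)).symm.trans (cj_g _ _), fun c => ?_⟩
    rw [← e, conj_mul, conj_mul, conj_injective.eq_iff, ← map_mul, ← map_mul, h.eq] at c
    exact absurd c (by decide)
  obtain ⟨_, ⟨e, he, rfl⟩, e1, ew⟩ := h.n3a o k hw
  have eZ : e ∉ Z0 := fun m => by
    rcases (mem_Z0 e).1 m with rfl | rfl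
    exacts [e1 (map_one ι), nw ew]
  obtain ⟨f, f1, f2, f3, fw⟩ : ∃ f, zc f ∧ f ∈ T0 ∧ f * t0 * (f * t0) = z0 ∧ w * ι f = ι f * w := by
    obtain ⟨g, gz, gv⟩ := h.exh o
    have gz' : g * ι z0 * g⁻¹ = ι z0 := by rw [mem_C1.1 gz, mul_inv_cancel_right]
    obtain ⟨d, hd, d1, dw⟩ := h.n3a o k (hw.trans (cj_g g⁻¹ w))
    have dw' : w * (g * d * g⁻¹) = g * d * g⁻¹ * w := by
      have := congrArg (fun x => g * x * g⁻¹) dw
      simpa [mul_assoc] using this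
    rcases mem_V hd d1 with rfl | rfl | rfl
    · rw [gz'] at dw'
      exact (nw dw').elim
    · rw [gv] at dw'
      exact ⟨p0, by decide, by decide, by decide, dw'⟩
    · rw [map_mul, ← conj_mul, gv, gz', ← map_mul] at dw'
      exact ⟨p0 * z0, by decide, by decide, by decide, dw'⟩
  obtain ⟨g, σ, q, s1, s2, s3, s4⟩ := h.rho he eZ
  have tT : t0 ∈ T0 := by decide
  have zT : z0 ∈ T0 := by decide
  have fQ : σ f ∉ Q0 := fun m => s4 (by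
    rw [← q.sq (mul_mem f2 tT) f3, q.mul f f2 t0 tT]
    exact (by decide +kernel : ∀ y ∈ Q0, y * y ∈ Z0) _ (mul_mem m (xc_Q _ (h.pxc q tT (by decide)))))
  have m : g * w * g⁻¹ ∈ C1[σ f].map ι := by
    rw [← h.Czu o (h.pzc q f2 f1) fQ, ← s1]
    refine ⟨mem_C1.2 ?_, mem_C1.2 ?_⟩
    · rw [q.eq e (V_T he), conj_mul, conj_mul, ew]
    · rw [q.eq f f2, conj_mul, conj_mul, fw]
  obtain ⟨y, -, hy⟩ := m
  have yT : y ∈ T0 := (h.zc_of (hw.trans ⟨g, trivial, hy.symm⟩)).2.2.1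
  have c : ι y * ι (σ z0) = ι (σ z0) * ι y := by
    rw [← map_mul, ← map_mul, (by decide +kernel : ∀ y ∈ T0, ∀ x ∈ V0, y * x = x * y) y yT _ (s3 z0 (by decide))]
  rw [hy, q.eq z0 zT, conj_mul, conj_mul, conj_injective.eq_iff] at c
  exact nw c

end Cfsg.Agent.MT
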