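import Cfsg.Agent.MT.Cz

/-! # Odd order subgroups of `C(z)` -/

set_option autoImplicit false
set_option linter.unusedVariables false
set_option linter.unusedSectionVars false

namespace Cfsg.Agent.MT
open Cfsg Cfsg.Agent.BG Subgroup PHom
open Cfsg.Agent.S3F (p2 SCl)

universe u

variable {G : Type u} [Group G] [Finite G] {ι : Sm →* G} {H K X Y : Subgroup G} {A B : Subgroup Sm} {x y : Sm}
  {a b g w : G}

theorem Pat.NQ_NE (h : Pat ι) : N[Q0.map ι] ≤ N[E0.map ι] := fun g hg => mem_N_of (by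
  rintro _ ⟨x, a, rfl⟩
  by_cases n : x = 1
  · simp [n]
  obtain ⟨y, b, e⟩ := conj_mem hg (mem_im (E_Q a))
  exact e ▸ mem_im (zc_Q y (h.zc_cj (E_zc x a n) ⟨g, trivial, e.symm⟩) b))

/-- odd order subgroups centralising `Q` -/
theorem Pat.cQ (h : Pat ι) (l : X ≤ C[Q0.map ι]) (od : PiG {2}ᶜ X) : X ≤ O[{2}ᶜ](C1[ι z0]) := by
  have lH : C[Q0.map ι] ≤ C1[ι z0] := C_le_C1 (mem_im (by decide))
  have s := (h.sub (rg_norm n_Q)).inf_norm' (cents_norm le_rfl) (normC le_rfl)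
  have c : ι.range ⊓ C[Q0.map ι] ≤ Z0.map ι := by
    rintro _ ⟨⟨t, rfl⟩, b⟩
    exact mem_im ((by decide +kernel : ∀ t : Sm, (∀ x ∈ Q0, x * t = t * x) → t ∈ Z0) t fun x a =>
      h.inj (by rw [map_mul, map_mul]; exact mem_C.1 b _ (mem_im a)))
  have cZ : C1[ι z0] ≤ C[Z0.map ι] := by rw [map_Z, C_zpowers]
  refine ((burnside p2 s (inf_le_left.trans (lH.trans (cZ.trans (centS c))))).le_O l od).trans
    (le_sup_right.trans (le_O (sup_le (O_le _ _) ((O_le _ _).trans lH)) (h.normQ.trans (sup_le (normsG le_sup_left)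
      (normY (inf_le_left.trans (O_norm _ _)) (normO _ (normC inf_le_right)))))
      ((O_pig _ _).sup_l (O_pig _ _) (((O_le _ _).trans lH).trans (O_norm _ _)))))

/-- an odd order subgroup of `N(Q)` centralising `z` and an element of `E - Z` centralises `Q` -/
theorem Pat.cE (h : Pat ι) (x1 : x ∈ E0) (x2 : x ∉ Z0) (l : Y ≤ C1[ι z0]) (n : Y ≤ N[Q0.map ι]) (od : PiG {2}ᶜ Y)
    (c : Y ≤ C1[ι x]) : Y ≤ C[Q0.map ι] := by
  have pl : ∀ g ∈ Y, ∃ σ, Pull ι g Q0 σ ∧ (∀ y ∈ Q0, σ y ∈ Q0) ∧ ∀ y ∈ Q0, g ∈ C1[ι y] → σ y = y := fun g hg => by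
    obtain ⟨σ, q⟩ := h.pull ((cj_of_mem_N (n hg)).le.trans (map_le Q0))
    exact ⟨σ, q, fun y a => h.mem_iff.1 (cj_of_mem_N (n hg) ▸ q.mem a),
      fun y a b => h.inj (by rw [q.eq y a, mem_C1.1 b, mul_inv_cancel_right])⟩
  have st : ∀ {A L}, A ≤ Q0 → PiG {2} L → L ≤ C[Y] → (∀ g ∈ Y, ∀ σ, Pull ι g Q0 σ → (∀ y ∈ Q0, σ y ∈ Q0) →
      (∀ y ∈ Q0, g ∈ C1[ι y] → σ y = y) → ∀ y ∈ A, ι (σ y * y⁻¹) ∈ L) → Y ≤ C[A.map ι] := fun {A L} a p i k => by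
    refine cent_symm (cop_stable (p.coprime od).symm ((commC _ _).le.trans (comm_le_iff.2 ?_)) i)
    rintro g hg _ ⟨y, b, rfl⟩
    obtain ⟨σ, q, q1, q2⟩ := pl g hg
    rw [← q.eq y (a b), ← map_inv, ← map_mul]
    exact k g hg σ q q1 q2 y b
  have zQ : z0 ∈ Q0 := by decide
  have cE : Y ≤ C[E0.map ι] := st E_Q ((map_pig (ι := ι) E0).of_le inf_le_left) (inf_le_right (a := E0.map ι))
    fun g hg σ q q1 q2 y b => by
    have sE : σ y ∈ E0 := h.mem_iff.1 (by rw [q.eq y (E_Q b)]; exact conj_mem (h.NQ_NE (n hg)) (mem_im b))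
    refine ⟨mem_im (mul_mem sE (inv_mem b)), ?_⟩
    have m : ∀ u, u = 1 ∨ u = z0 ∨ u = x ∨ u = x * z0 → ι u ∈ C[Y] := by
      rintro u (rfl | rfl | rfl | rfl)
      · simp
      · exact le_C1_iff.1 l
      · exact le_C1_iff.1 c
      · rw [map_mul]; exact mul_mem (le_C1_iff.1 c) (le_C1_iff.1 l)
    rcases (by decide +kernel : ∀ x ∈ E0, x ∉ Z0 → ∀ y ∈ E0, ∀ y' ∈ E0, (y = 1 ∨ y = z0 ∨ y = x ∨ y = x * z0) ∨
      (y' = 1 ∨ y' = z0 ∨ y' = x ∨ y' = x * z0) ∨ (y' * y⁻¹ = 1 ∨ y' * y⁻¹ = z0 ∨ y' * y⁻¹ = x ∨ y' * y⁻¹ = x * z0))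
      x x1 x2 y b _ sE with j | j | j
    · rw [q2 y (E_Q b) (C_le_C1 (m y j) (cent_symm le_rfl hg))]; simp
    · rw [q.inj _ (E_Q sE) _ (E_Q b) (q2 _ (E_Q sE) (C_le_C1 (m _ j) (cent_symm le_rfl hg)))]; simp
    · exact m _ j
  refine st le_rfl (map_pig E0) (cent_symm cE) fun g hg σ q q1 q2 y b => mem_im
    ((by decide +kernel : ∀ y ∈ Q0, ∀ y' ∈ Q0, (∀ e ∈ E0, y' * e = y * e * y⁻¹ * y') → y' * y⁻¹ ∈ E0) y b _ (q1 y b)
      fun e i => ?_)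
  have f : ∀ e ∈ E0, σ e = e := fun e i => q2 e (E_Q i) (C_le_C1 (mem_im i) (cE hg))
  have j : y * e * y⁻¹ ∈ E0 := conj_mem (n_E (mem_top y)) i
  have k := q.mul _ (E_Q j) y b
  rwa [f _ j, inv_mul_cancel_right, q.mul y b e (E_Q i), f e i] at k

/-- an odd order subgroup of `C(z)` normalised by an element of `E - Z` lies in `O(C(z))` -/
theorem Pat.pz (h : Pat ι) (x1 : x ∈ E0) (x2 : x ∉ Z0) (l : X ≤ C1[ι z0]) (od : PiG {2}ᶜ X) (n : ι x ∈ N[X]) :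
    X ≤ O[{2}ᶜ](C1[ι z0]) := by
  have nO := O_norm {2}ᶜ C1[ι z0]
  have o := (O_pig {2}ᶜ C1[ι z0]).sup_l od (l.trans nO)
  have lH := sup_le (O_le {2}ᶜ C1[ι z0]) l
  refine le_sup_right.trans ((le_inf (lH.trans h.normQ) le_rfl).trans ?_)
  rw [modl_l (inf_le_left.trans nO) le_sup_left]
  have o' := o.of_le (inf_le_right (a := C1[ι z0] ⊓ N[Q0.map ι]))
  refine sup_le le_rfl (h.cQ (h.cE x1 x2 (inf_le_left.trans inf_le_left) (inf_le_left.trans inf_le_right) o' ?_) o')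
  rw [← C_zpowers (ι x), ← comm_eq_bot, ← le_bot_iff, ← (map_pig (ι := ι) Q0).inf_bot o]
  exact le_inf ((commS le_rfl (zpowers_le.2 (mem_im (E_Q x1)))).trans (commR (inf_le_left.trans inf_le_right)))
    ((commS inf_le_right le_rfl).trans (commL (normY (zpowers_le.2 (nO (rg_cen (mem_rg x)))) (zpowers_le.2 n))))

end Cfsg.Agent.MT
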