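import Cfsg.Agent.Blk.G2S1
import Cfsg.Agent.GF.Main

/-! # The group `Sm = (Z₄ × Z₄) : 2²` of order `64`, a Sylow `2`-subgroup of `M₁₂`

`⟨a, b, e, f⟩` is `(a, b) t ^ e s ^ f`, `t` inverts and `s` swaps.
Every statement about finitely many elements is checked by `decide +kernel`. -/

set_option autoImplicit false

namespace Cfsg.Agent.MT
open Cfsg Cfsg.Agent.BG Subgroup

abbrev Sm : Type := G2S.MM 4

namespace Sm
instance : DecidableEq Sm := fun x y =>
  decidable_of_iff (x.a = y.a ∧ x.b = y.b ∧ x.e = y.e ∧ x.f = y.f)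
    ⟨fun h => G2S.MM.ext h.1 h.2.1 h.2.2.1 h.2.2.2, fun h => h ▸ ⟨rfl, rfl, rfl, rfl⟩⟩
def l4 : List (ZMod 4) := [0, 1, 2, 3]
theorem mem_l4 : ∀ x : ZMod 4, x ∈ l4 := by decide
def all : List Sm := [false, true].flatMap fun e => [false, true].flatMap fun f => l4.flatMap fun a =>
  l4.map fun b => ⟨a, b, e, f⟩
theorem mem_all (x : Sm) : x ∈ all := by
  obtain ⟨a, b, e, f⟩ := x
  simp only [all, List.mem_flatMap, List.mem_map]
  exact ⟨e, by cases e <;> decide, f, by cases f <;> decide, a, mem_l4 a, b, mem_l4 b, rfl⟩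
instance (p : Sm → Prop) [DecidablePred p] : Decidable (∀ x, p x) :=
  decidable_of_iff (∀ x ∈ all, p x) ⟨fun h x => h x (mem_all x), fun h x _ => h x⟩
instance (p : Sm → Prop) [DecidablePred p] : Decidable (∃ x, p x) :=
  decidable_of_iff (∃ x ∈ all, p x) ⟨fun ⟨x, _, h⟩ => ⟨x, h⟩, fun ⟨x, h⟩ => ⟨x, mem_all x, h⟩⟩
instance : Fintype Sm := Fintype.ofList all mem_all

theorem card : Nat.card Sm = 64 := by rw [Nat.card_eq_fintype_card]; decide +kernel

/-- a subgroup given by a test -/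
def sub (p : Sm → Bool) (h1 : p 1 = true) (h2 : ∀ x, p x = true → ∀ y, p y = true → p (x * y) = true)
    (h3 : ∀ x, p x = true → p x⁻¹ = true) : Subgroup Sm :=
  ⟨⟨⟨{x | p x = true}, fun hx hy => h2 _ hx _ hy⟩, h1⟩, fun hx => h3 _ hx⟩
end Sm
open Sm

def z0 : Sm := ⟨2, 2, false, false⟩
def v0 : Sm := ⟨2, 0, false, false⟩
def a0 : Sm := ⟨1, 0, false, false⟩
def b0 : Sm := ⟨0, 1, false, false⟩
def c0 : Sm := ⟨1, 1, false, false⟩
def t0 : Sm := ⟨0, 0, true, false⟩
def s0 : Sm := ⟨0, 0, false, true⟩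
def r0 : Sm := ⟨0, 0, true, true⟩
def p0 : Sm := ⟨1, 1, true, false⟩
def u0 : Sm := ⟨1, 0, true, false⟩
def w0 : Sm := ⟨0, 1, true, false⟩

def ev (x : ZMod 4) : Bool := x == 0 || x == 2
def pZ (x : Sm) : Bool := !x.e && !x.f && ev x.a && x.a == x.b
def pV (x : Sm) : Bool := !x.e && !x.f && ev x.a && ev x.b
def pT (x : Sm) : Bool := !x.f
def pQ (x : Sm) : Bool := ev (x.a + x.b)
def pE (x : Sm) : Bool := !x.f && ev (x.a + x.b) && (ev x.a != x.e)
def pF (x : Sm) : Bool := !x.f && ev x.a && ev x.b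

/-- the centre `{1, z}` -/
def Z0 : Subgroup Sm := sub pZ (by decide) (by decide +kernel) (by decide +kernel)
/-- the normal four-group `{1, z, v, v z}` -/
def V0 : Subgroup Sm := sub pV (by decide) (by decide +kernel) (by decide +kernel)
/-- `C(v) = (Z₄ × Z₄) ⟨t⟩` -/
def T0 : Subgroup Sm := sub pT (by decide) (by decide +kernel) (by decide +kernel)
/-- extraspecial of order `32` and plus type -/
def Q0 : Subgroup Sm := sub pQ (by decide) (by decide +kernel) (by decide +kernel)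
/-- `⟨V, p⟩`, all of whose involutions are conjugate to `z` -/
def E0 : Subgroup Sm := sub pE (by decide) (by decide +kernel) (by decide +kernel)
/-- `⟨V, t⟩` -/
def F0 : Subgroup Sm := sub pF (by decide) (by decide +kernel) (by decide +kernel)

instance : DecidablePred (· ∈ Z0) := fun x => inferInstanceAs (Decidable (pZ x = true))
instance : DecidablePred (· ∈ V0) := fun x => inferInstanceAs (Decidable (pV x = true))
instance : DecidablePred (· ∈ T0) := fun x => inferInstanceAs (Decidable (pT x = true))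
instance : DecidablePred (· ∈ Q0) := fun x => inferInstanceAs (Decidable (pQ x = true))
instance : DecidablePred (· ∈ E0) := fun x => inferInstanceAs (Decidable (pE x = true))
instance : DecidablePred (· ∈ F0) := fun x => inferInstanceAs (Decidable (pF x = true))
instance (t : Sm) : DecidablePred (· ∈ C1[t]) := fun y => decidable_of_iff (y * t = t * y) mem_C1.symm

/-- the `15` involutions conjugate to `z`: those of `V`, `V p`, `V u`, `V w` -/
def zc (x : Sm) : Prop := x * x = 1 ∧ x ≠ 1 ∧ x ∈ T0 ∧ (x ∈ F0 → x ∈ V0)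
/-- the `12` involutions conjugate to `t`: those of `V t` and the classes of `s` and `r = s t` -/
def xc (x : Sm) : Prop := x * x = 1 ∧ x ∉ V0 ∧ (x ∈ T0 → x ∈ F0)
instance : DecidablePred zc := fun x => inferInstanceAs (Decidable (_ ∧ _))
instance : DecidablePred xc := fun x => inferInstanceAs (Decidable (_ ∧ _))

theorem card_sub (A : Subgroup Sm) [DecidablePred (· ∈ A)] : Nat.card A = (all.filter (· ∈ A)).length := by
  rw [Nat.card_eq_fintype_card, Fintype.card_subtype, ← List.toFinset_card_of_nodup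
    (List.Nodup.filter _ (by decide +kernel))]
  exact congrArg Finset.card (Finset.ext fun x => by simp [Sm.mem_all])

theorem card_Z0 : #Z0 = 2 := (card_sub _).trans (by decide +kernel)
theorem card_V0 : #V0 = 4 := (card_sub _).trans (by decide +kernel)
theorem card_T0 : #T0 = 32 := (card_sub _).trans (by decide +kernel)
theorem card_Q0 : #Q0 = 32 := (card_sub _).trans (by decide +kernel)
theorem card_E0 : #E0 = 8 := (card_sub _).trans (by decide +kernel)
theorem card_F0 : #F0 = 8 := (card_sub _).trans (by decide +kernel)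

theorem mem_V0 : ∀ x, x ∈ V0 ↔ x = 1 ∨ x = z0 ∨ x = v0 ∨ x = v0 * z0 := by decide +kernel
theorem mem_Z0 : ∀ x, x ∈ Z0 ↔ x = 1 ∨ x = z0 := by decide +kernel
theorem z0_cen : ∀ x, x * z0 = z0 * x := by decide +kernel
theorem cen_iff : ∀ x : Sm, (∀ y, y * x = x * y) ↔ x ∈ Z0 := by decide +kernel
theorem sqz : ∀ x : Sm, x * x = z0 → x ∈ Q0 := by decide +kernel
theorem zx : ∀ x : Sm, x * x = 1 → x = 1 ∨ zc x ∨ xc x := by decide +kernel
theorem xc_Q : ∀ x, xc x → x ∈ Q0 := by decide +kernel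
theorem zc_Q : ∀ x, zc x → x ∈ Q0 → x ∈ E0 := by decide +kernel
theorem E_zc : ∀ x ∈ E0, x ≠ 1 → zc x := by decide +kernel
theorem cardC_xc : ∀ x, xc x → (all.filter (· ∈ C1[x])).length = 16 := by decide +kernel
/-- the classes of involutions -/
theorem invs : ∀ x : Sm, x * x = 1 → x = 1 ∨ ∃ y ∈ [z0, v0, t0, p0, u0, s0, r0], ∃ s, s * x * s⁻¹ = y := by
  decide +kernel
theorem Z_V : Z0 ≤ V0 := fun x => (by decide +kernel : ∀ x ∈ Z0, x ∈ V0) x
theorem V_E : V0 ≤ E0 := fun x => (by decide +kernel : ∀ x ∈ V0, x ∈ E0) x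
theorem V_F : V0 ≤ F0 := fun x => (by decide +kernel : ∀ x ∈ V0, x ∈ F0) x
theorem V_T : V0 ≤ T0 := fun x => (by decide +kernel : ∀ x ∈ V0, x ∈ T0) x
theorem E_T : E0 ≤ T0 := fun x => (by decide +kernel : ∀ x ∈ E0, x ∈ T0) x
theorem E_Q : E0 ≤ Q0 := fun x => (by decide +kernel : ∀ x ∈ E0, x ∈ Q0) x
theorem ab_of (A : Subgroup Sm) (h1 : ∀ x ∈ A, ∀ y ∈ A, x * y = y * x) (h2 : ∀ x ∈ A, x * x = 1) : Abelem 2 A :=
  ⟨le_C_iff.2 h1, fun x a => (pow_two x).trans (h2 x a)⟩
theorem ab_E : Abelem 2 E0 := ab_of _ (by decide +kernel) (by decide +kernel)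
theorem ab_F : Abelem 2 F0 := ab_of _ (by decide +kernel) (by decide +kernel)
theorem ab_V : Abelem 2 V0 := ab_E.of_le V_E
theorem ab_Z : Abelem 2 Z0 := ab_V.of_le Z_V
theorem n_of (A : Subgroup Sm) (h : ∀ s, ∀ x ∈ A, s * x * s⁻¹ ∈ A) : ⊤ ≤ N[A] := le_N_iff.2 fun s _ => h s
theorem n_V : ⊤ ≤ N[V0] := n_of _ (by decide +kernel)
theorem n_T : ⊤ ≤ N[T0] := n_of _ (by decide +kernel)
theorem n_Q : ⊤ ≤ N[Q0] := n_of _ (by decide +kernel)
theorem n_E : ⊤ ≤ N[E0] := n_of _ (by decide +kernel)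
theorem n_F : ⊤ ≤ N[F0] := n_of _ (by decide +kernel)
theorem Z0_eq : Z0 = zpowers z0 := (eq_zpowers_of_prime (card_Z0.symm ▸ Nat.prime_two) (by decide) (by decide)).symm
theorem C_v : C1[v0] = T0 := Subgroup.ext fun y => (by decide +kernel : ∀ y, y ∈ C1[v0] ↔ y ∈ T0) y

end Cfsg.Agent.MT
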